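import Mathlib
import Cfsg.Agent.Lib.Classical.Symplectic
import Cfsg.Agent.KnownSimple.CrossCharDegree
import Cfsg.Agent.Lib.Characters.Basic

/-!
# The Siegel radical of the symplectic group and its characters

The abelian subgroup of the matrices `[1 S; 0 1]` with `S` symmetric; its characters correspond to
quadratic forms.
-/

set_option autoImplicit false
set_option linter.unusedSectionVars false

namespace Cfsg.Agent.Classical.SympMinDeg

open Matrix
open Cfsg.Agent.Forms.SympStd
open Cfsg.Agent.KnownSimple.CrossCharDegree (chars exists_char card_le_finrank chars_comp)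

variable {F : Type*} [Field F] {n : ℕ}

/-- The symmetric matrices. -/
def symm (F : Type*) [Field F] (n : ℕ) : AddSubgroup (Matrix (Fin n) (Fin n) F) where
  carrier := {S | Sᵀ = S}
  zero_mem' := by simp
  add_mem' {a b} ha hb := by
    simp only [Set.mem_ofPred_eq] at ha hb ⊢
    rw [Matrix.transpose_add, ha, hb]
  neg_mem' {a} ha := by
    simp only [Set.mem_ofPred_eq] at ha ⊢
    rw [Matrix.transpose_neg, ha]

/-- The radical element `[1 S; 0 1]`. -/
def sRad (S : symm F n) : Matrix.symplecticGroup (Fin n) F :=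
  ⟨Matrix.fromBlocks 1 (S : Matrix (Fin n) (Fin n) F) 0 1, by
    have h : (S : Matrix (Fin n) (Fin n) F)ᵀ = S := S.2
    rw [SymplecticGroup.mem_iff, Matrix.J, Matrix.fromBlocks_transpose, Matrix.fromBlocks_multiply,
      Matrix.fromBlocks_multiply]
    simp [h]⟩

theorem sRad_add (S T : symm F n) : sRad (S + T) = sRad S * sRad T := by
  refine Subtype.ext ?_
  show Matrix.fromBlocks _ _ _ _ = Matrix.fromBlocks _ _ _ _ * Matrix.fromBlocks _ _ _ _
  rw [Matrix.fromBlocks_multiply]
  simp [add_comm]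

theorem sRad_zero : sRad (0 : symm F n) = 1 := by
  refine Subtype.ext ?_
  show Matrix.fromBlocks _ _ _ _ = _
  simp

/-- The radical as a homomorphism. -/
def sRadHom : Multiplicative (symm F n) →* Matrix.symplecticGroup (Fin n) F where
  toFun S := sRad S.toAdd
  map_one' := sRad_zero
  map_mul' S T := sRad_add S.toAdd T.toAdd

/-- Congruence of symmetric matrices. -/
def adP (P : Matrix (Fin n) (Fin n) F) : symm F n →+ symm F n where
  toFun S := ⟨P * (S : Matrix (Fin n) (Fin n) F) * Pᵀ, by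
    have h : (S : Matrix (Fin n) (Fin n) F)ᵀ = S := S.2
    show (P * (S : Matrix (Fin n) (Fin n) F) * Pᵀ)ᵀ = _
    rw [Matrix.transpose_mul, Matrix.transpose_mul, Matrix.transpose_transpose, h,
      Matrix.mul_assoc]⟩
  map_zero' := Subtype.ext (by simp)
  map_add' S T := Subtype.ext (by simp [Matrix.mul_add, Matrix.add_mul])

theorem exists_levi {P : Matrix (Fin n) (Fin n) F} (hP : IsUnit P) :
    ∃ L : Matrix.symplecticGroup (Fin n) F, ∀ S, L * sRad S = sRad (adP P S) * L := by
  have hd : IsUnit P.det := (Matrix.isUnit_iff_isUnit_det P).1 hP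
  have h1 : (P⁻¹)ᵀ * Pᵀ = 1 := by
    rw [← Matrix.transpose_mul, Matrix.mul_nonsing_inv P hd, Matrix.transpose_one]
  have h2 : P * ((P⁻¹)ᵀ)ᵀ = 1 := by
    rw [Matrix.transpose_transpose, Matrix.mul_nonsing_inv P hd]
  have h3 : Pᵀ * (P⁻¹)ᵀ = 1 := by
    rw [← Matrix.transpose_mul, Matrix.nonsing_inv_mul P hd, Matrix.transpose_one]
  refine ⟨⟨Matrix.fromBlocks P 0 0 (P⁻¹)ᵀ, ?_⟩, fun S => Subtype.ext ?_⟩
  · rw [SymplecticGroup.mem_iff, Matrix.J, Matrix.fromBlocks_transpose, Matrix.fromBlocks_multiply,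
      Matrix.fromBlocks_multiply]
    simp [h1, h2, Matrix.mul_nonsing_inv P hd]
  · show Matrix.fromBlocks _ _ _ _ * Matrix.fromBlocks _ _ _ _ =
      Matrix.fromBlocks (1 : Matrix (Fin n) (Fin n) F)
        (P * (S : Matrix (Fin n) (Fin n) F) * Pᵀ) 0 1 * Matrix.fromBlocks P 0 0 (P⁻¹)ᵀ
    rw [Matrix.fromBlocks_multiply, Matrix.fromBlocks_multiply]
    simp [Matrix.mul_assoc, h3]

/-! ### Root elements -/

/-- `κ b bᵀ`. -/
def rEl (κ : F) (b : Fin n → F) : symm F n :=
  ⟨κ • Matrix.vecMulVec b b, by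
    show (κ • Matrix.vecMulVec b b)ᵀ = _
    rw [Matrix.transpose_smul, Matrix.transpose_vecMulVec]⟩

/-- `a (b cᵀ + c bᵀ)`. -/
def oEl (a : F) (b c : Fin n → F) : symm F n :=
  ⟨a • (Matrix.vecMulVec b c + Matrix.vecMulVec c b), by
    show (a • (Matrix.vecMulVec b c + Matrix.vecMulVec c b))ᵀ = _
    rw [Matrix.transpose_smul, Matrix.transpose_add, Matrix.transpose_vecMulVec,
      Matrix.transpose_vecMulVec, add_comm]⟩

theorem coe_rEl (κ : F) (b : Fin n → F) :
    (rEl κ b : Matrix (Fin n) (Fin n) F) = κ • Matrix.vecMulVec b b := rfl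

theorem coe_oEl (a : F) (b c : Fin n → F) :
    (oEl a b c : Matrix (Fin n) (Fin n) F) =
      a • (Matrix.vecMulVec b c + Matrix.vecMulVec c b) := rfl

theorem rEl_add (κ μ : F) (b : Fin n → F) : rEl (κ + μ) b = rEl κ b + rEl μ b :=
  Subtype.ext (by simp [coe_rEl, add_smul])

theorem rEl_smul (κ c : F) (b : Fin n → F) : rEl κ (c • b) = rEl (κ * c ^ 2) b :=
  Subtype.ext (by
    ext i j
    simp [coe_rEl, Matrix.vecMulVec_apply]
    ring)

theorem rEl_add_vec (κ : F) (b c : Fin n → F) :
    rEl κ (b + c) = rEl κ b + rEl κ c + oEl κ b c :=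
  Subtype.ext (by
    ext i j
    simp [coe_rEl, coe_oEl, Matrix.vecMulVec_apply]
    ring)

theorem oEl_add (a a' : F) (b c : Fin n → F) : oEl (a + a') b c = oEl a b c + oEl a' b c :=
  Subtype.ext (by simp [coe_oEl, add_smul]; abel)

theorem oEl_add_left (a : F) (b b' c : Fin n → F) :
    oEl a (b + b') c = oEl a b c + oEl a b' c :=
  Subtype.ext (by
    ext i j
    simp [coe_oEl, Matrix.vecMulVec_apply]
    ring)

theorem oEl_smul_left (a t : F) (b c : Fin n → F) : oEl a (t • b) c = oEl (a * t) b c :=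
  Subtype.ext (by
    ext i j
    simp [coe_oEl, Matrix.vecMulVec_apply]
    ring)

theorem adP_rEl (P : Matrix (Fin n) (Fin n) F) (κ : F) (b : Fin n → F) :
    adP P (rEl κ b) = rEl κ (P *ᵥ b) :=
  Subtype.ext (by
    show P * (κ • Matrix.vecMulVec b b) * Pᵀ = κ • _
    rw [Matrix.mul_smul, Matrix.smul_mul, Matrix.mul_vecMulVec, Matrix.vecMulVec_mul,
      Matrix.vecMul_transpose])

theorem symm_decomp (S : symm F n) :
    S = (∑ i, rEl ((S : Matrix (Fin n) (Fin n) F) i i) (Pi.single i 1)) +
      ∑ i, ∑ j, if i < j then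
        oEl ((S : Matrix (Fin n) (Fin n) F) i j) (Pi.single i 1) (Pi.single j 1) else 0 := by
  classical
  apply Subtype.ext
  ext k l
  have hsym : ∀ a b, (S : Matrix (Fin n) (Fin n) F) a b = (S : Matrix (Fin n) (Fin n) F) b a :=
    fun a b => (congrFun (congrFun (S.2 : (S : Matrix (Fin n) (Fin n) F)ᵀ = S) a) b).symm
  simp only [AddSubgroup.coe_add, AddSubmonoidClass.coe_finsetSum, Matrix.add_apply,
    Matrix.sum_apply, coe_rEl, Matrix.smul_apply, Matrix.vecMulVec_apply, smul_eq_mul]
  have e1 : ∀ i j : Fin n, (((if i < j then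
        oEl ((S : Matrix (Fin n) (Fin n) F) i j) (Pi.single i 1) (Pi.single j 1) else 0 : symm F n) :
      Matrix (Fin n) (Fin n) F)) k l =
      (if i = k then (if j = l then (if i < j then (S : Matrix (Fin n) (Fin n) F) i j else 0) else 0)
        else 0) +
      (if j = k then (if i = l then (if i < j then (S : Matrix (Fin n) (Fin n) F) i j else 0) else 0)
        else 0) := by
    intro i j
    by_cases hij : i < j
    · simp only [if_pos hij, coe_oEl, Matrix.smul_apply, Matrix.add_apply, Matrix.vecMulVec_apply,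
        Pi.single_apply, smul_eq_mul, @eq_comm _ k, @eq_comm _ l]
      split_ifs <;> simp_all
    · simp [if_neg hij]
  simp only [e1, Pi.single_apply, Finset.sum_add_distrib]
  simp only [Finset.sum_ite_eq', Finset.sum_ite_irrel, Finset.sum_const_zero, Finset.mem_univ,
    if_true, mul_ite, mul_one, mul_zero, Finset.sum_ite_eq]
  rcases lt_trichotomy k l with h | h | h
  · simp [h, h.ne, h.ne', h.not_gt]
  · subst h; simp
  · simp [h, h.ne, h.ne', h.not_gt, hsym k l]

/-! ### Characters as quadratic forms -/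

variable (χ : AddChar (symm F n) ℂ)

/-- The restriction to a root group. -/
def rootChar (b : Fin n → F) : AddChar F ℂ where
  toFun κ := χ (rEl κ b)
  map_zero_eq_one' := by
    have : rEl (0 : F) b = 0 := Subtype.ext (by simp [coe_rEl])
    rw [this, AddChar.map_zero_eq_one]
  map_add_eq_mul' κ μ := by rw [rEl_add, AddChar.map_add_eq_mul]

theorem rootChar_apply (b : Fin n → F) (κ : F) : rootChar χ b κ = χ (rEl κ b) := rfl

theorem rootChar_act (P : Matrix (Fin n) (Fin n) F) (b : Fin n → F) :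
    rootChar (χ.compAddMonoidHom (adP P)) b = rootChar χ (P *ᵥ b) := by
  refine DFunLike.ext _ _ fun κ => ?_
  rw [rootChar_apply, rootChar_apply, AddChar.compAddMonoidHom_apply, adP_rEl]

variable [Fintype F]

theorem mulShift_bijective {lam : AddChar F ℂ} (hlam : lam ≠ 1) :
    Function.Bijective fun κ : F => AddChar.mulShift lam κ := by
  rw [Fintype.bijective_iff_injective_and_card]
  exact ⟨AddChar.to_mulShift_inj_of_isPrimitive (AddChar.IsPrimitive.of_ne_one hlam),
    AddChar.card_eq.symm⟩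

/-- The quadratic form of a character, with respect to `lam`. -/
theorem exists_quad {lam : AddChar F ℂ} (hlam : lam ≠ 1) :
    ∃ Q : QuadraticForm F (Fin n → F), ∀ b, rootChar χ b = AddChar.mulShift lam (Q b) := by
  classical
  choose Qf hQ using fun b => (mulShift_bijective hlam).2 (rootChar χ b)
  have inj := (mulShift_bijective hlam).1
  let oC : (Fin n → F) → (Fin n → F) → AddChar F ℂ := fun b c =>
    { toFun := fun a => χ (oEl a b c)
      map_zero_eq_one' := by
        have : oEl (0 : F) b c = 0 := Subtype.ext (by simp [coe_oEl])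
        rw [this, AddChar.map_zero_eq_one]
      map_add_eq_mul' := fun a a' => by rw [oEl_add, AddChar.map_add_eq_mul] }
  have hoC : ∀ b c a, oC b c a = χ (oEl a b c) := fun b c a => rfl
  have hpolar : ∀ b c, AddChar.mulShift lam (QuadraticMap.polar Qf b c) = oC b c := by
    intro b c
    have h : AddChar.mulShift lam (Qf (b + c)) =
        AddChar.mulShift lam (Qf b) * AddChar.mulShift lam (Qf c) * oC b c := by
      refine DFunLike.ext _ _ fun a => ?_
      simp only [AddChar.mul_apply, hoC]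
      have h1 := fun x => DFunLike.congr_fun (hQ x) a
      simp only [rootChar_apply] at h1
      rw [h1, h1, h1, rEl_add_vec, AddChar.map_add_eq_mul, AddChar.map_add_eq_mul]
    refine DFunLike.ext _ _ fun a => ?_
    have h1 := DFunLike.congr_fun h a
    simp only [AddChar.mul_apply, AddChar.mulShift_apply] at h1
    rw [← AddChar.map_add_eq_mul] at h1
    rw [AddChar.mulShift_apply, QuadraticMap.polar]
    have e : (Qf (b + c) - Qf b - Qf c) * a + (Qf b * a + Qf c * a) = Qf (b + c) * a := by ring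
    rw [← e, AddChar.map_add_eq_mul, mul_comm (lam (Qf b * a + Qf c * a))] at h1
    exact mul_right_cancel₀ (AddChar.val_isUnit lam _).ne_zero h1
  have hsmul : ∀ (a : F) b, Qf (a • b) = (a * a) • Qf b := by
    intro a b
    apply inj
    refine DFunLike.ext _ _ fun κ => ?_
    have h1 := fun x => DFunLike.congr_fun (hQ x)
    simp only [rootChar_apply, AddChar.mulShift_apply] at h1
    simp only [AddChar.mulShift_apply]
    rw [h1 (a • b) κ, rEl_smul, ← h1 b (κ * a ^ 2), smul_eq_mul]
    congr 1; ring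
  refine ⟨QuadraticMap.ofPolar Qf hsmul (fun b b' c => ?_) (fun t b c => ?_), fun b => (hQ b).symm⟩
  · apply inj
    refine DFunLike.ext _ _ fun a => ?_
    show AddChar.mulShift lam (QuadraticMap.polar Qf (b + b') c) a =
      AddChar.mulShift lam (QuadraticMap.polar Qf b c + QuadraticMap.polar Qf b' c) a
    conv_rhs => rw [AddChar.mulShift_apply, add_mul, AddChar.map_add_eq_mul,
      ← AddChar.mulShift_apply, ← AddChar.mulShift_apply]
    rw [hpolar, hpolar, hpolar, hoC, hoC, hoC, oEl_add_left, AddChar.map_add_eq_mul]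
  · apply inj
    refine DFunLike.ext _ _ fun a => ?_
    show AddChar.mulShift lam (QuadraticMap.polar Qf (t • b) c) a =
      AddChar.mulShift lam (t • QuadraticMap.polar Qf b c) a
    rw [hpolar, hoC, oEl_smul_left, ← hoC, ← hpolar, AddChar.mulShift_apply,
      AddChar.mulShift_apply, smul_eq_mul]
    congr 1; ring

/-! ### Representations -/

variable {V : Type*} [AddCommGroup V] [Module ℂ V] [FiniteDimensional ℂ V]
variable (ρ : Representation ℂ (Matrix.symplecticGroup (Fin n) F) V)

/-- The restriction of a representation to the radical. -/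
noncomputable def radRep : Multiplicative (symm F n) →* Module.End ℂ V :=
  ρ.comp sRadHom

theorem radRep_apply (S : symm F n) : radRep ρ (Multiplicative.ofAdd S) = ρ (sRad S) := rfl

theorem exists_weight {S₀ : symm F n} (h : ρ (sRad S₀) ≠ 1) :
    ∃ χ ∈ chars (radRep ρ), χ S₀ ≠ 1 := by
  haveI : Finite (symm F n) := inferInstanceAs (Finite {S : Matrix (Fin n) (Fin n) F // S ∈ symm F n})
  have hp : (ringChar F).Prime := CharP.char_is_prime F _
  refine exists_char (L := ℂ) (p := ringChar F) (Nat.cast_ne_zero.2 hp.ne_zero) ?_ h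
  apply Subtype.ext
  ext i j
  simp [← AddSubgroup.coe_nsmul]

/-- A family of congruent forms gives a lower bound. -/
theorem card_le_of_family {χ : AddChar (symm F n) ℂ} (hχ : χ ∈ chars (radRep ρ))
    {lam : AddChar F ℂ} (hlam : lam ≠ 1) {Q : QuadraticForm F (Fin n → F)}
    (hQ : ∀ b, rootChar χ b = AddChar.mulShift lam (Q b)) {ι : Type*} [Finite ι]
    (M : ι → Matrix (Fin n) (Fin n) F) (hu : ∀ x, IsUnit (M x))
    (hM : ∀ x y, (∀ b, Q (M x *ᵥ b) = Q (M y *ᵥ b)) → x = y) :
    Nat.card ι ≤ Module.finrank ℂ V := by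
  have hinj : Function.Injective fun x => χ.compAddMonoidHom (adP (M x)) := by
    intro x y hxy
    refine hM x y fun b => (mulShift_bijective hlam).1 ?_
    show AddChar.mulShift lam _ = AddChar.mulShift lam _
    rw [← hQ, ← hQ, ← rootChar_act, ← rootChar_act]
    exact congrArg (fun c => rootChar c b) hxy
  have hsub : Set.range (fun x => χ.compAddMonoidHom (adP (M x))) ⊆ chars (radRep ρ) := by
    rintro _ ⟨x, rfl⟩
    obtain ⟨L, hL⟩ := exists_levi (hu x)
    refine chars_comp hχ (adP (M x)) (g := ρ L⁻¹) (h := ρ L)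
      (by rw [← map_mul, mul_inv_cancel, map_one]) fun S => ?_
    rw [radRep_apply, radRep_apply, ← map_mul, ← map_mul]
    congr 1
    rw [eq_inv_mul_iff_mul_eq, ← mul_assoc, hL, mul_inv_cancel_right]
  have h := card_le_finrank hsub
  rwa [Nat.card_range_of_injective hinj] at h

/-- With a vector fixed by the radical there is one character more. -/
theorem card_succ_le_of_family {χ : AddChar (symm F n) ℂ} (hχ : χ ∈ chars (radRep ρ))
    {lam : AddChar F ℂ} (hlam : lam ≠ 1) {Q : QuadraticForm F (Fin n → F)}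
    (hQ : ∀ b, rootChar χ b = AddChar.mulShift lam (Q b)) (hQ0 : ∃ b, Q b ≠ 0)
    {ι : Type*} [Finite ι]
    (M : ι → Matrix (Fin n) (Fin n) F) (hu : ∀ x, IsUnit (M x))
    (hM : ∀ x y, (∀ b, Q (M x *ᵥ b) = Q (M y *ᵥ b)) → x = y)
    {u : V} (hu0 : u ≠ 0) (hfix : ∀ S, ρ (sRad S) u = u) :
    Nat.card ι + 1 ≤ Module.finrank ℂ V := by
  let c : Option ι → AddChar (symm F n) ℂ := fun o =>
    o.elim 1 fun x => χ.compAddMonoidHom (adP (M x))
  have hne : ∀ x, χ.compAddMonoidHom (adP (M x)) ≠ 1 := by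
    intro x h
    obtain ⟨b, hb⟩ := hQ0
    refine hb ((mulShift_bijective hlam).1 ?_)
    show AddChar.mulShift lam _ = AddChar.mulShift lam 0
    rw [AddChar.mulShift_zero, ← hQ]
    have hd := (Matrix.isUnit_iff_isUnit_det _).1 (hu x)
    have e : b = M x *ᵥ ((M x)⁻¹ *ᵥ b) := by
      rw [Matrix.mulVec_mulVec, Matrix.mul_nonsing_inv _ hd, Matrix.one_mulVec]
    rw [e, ← rootChar_act, h]
    rfl
  have hinj : Function.Injective c := by
    rintro (_ | x) (_ | y) h
    · rfl
    · exact absurd h.symm (hne y)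
    · exact absurd h (hne x)
    · congr 1
      refine hM x y fun b => (mulShift_bijective hlam).1 ?_
      show AddChar.mulShift lam _ = AddChar.mulShift lam _
      rw [← hQ, ← hQ, ← rootChar_act, ← rootChar_act]
      exact congrArg (fun c => rootChar c b) h
  have hsub : Set.range c ⊆ chars (radRep ρ) := by
    rintro _ ⟨_ | x, rfl⟩
    · exact ⟨u, hu0, fun S => by rw [radRep_apply, hfix]; exact (one_smul ℂ u).symm⟩
    · obtain ⟨L, hL⟩ := exists_levi (hu x)
      refine chars_comp hχ (adP (M x)) (g := ρ L⁻¹) (h := ρ L)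
        (by rw [← map_mul, mul_inv_cancel, map_one]) fun S => ?_
      rw [radRep_apply, radRep_apply, ← map_mul, ← map_mul]
      congr 1
      rw [eq_inv_mul_iff_mul_eq, ← mul_assoc, hL, mul_inv_cancel_right]
  have h := card_le_finrank hsub
  rwa [Nat.card_range_of_injective hinj, Finite.card_option] at h

theorem rad_trivial_imp (hn : 1 ≤ n) (h : ∀ S : symm F n, ρ (sRad S) = 1)
    (g : Matrix.symplecticGroup (Fin n) F) : ρ g = 1 := by
  classical
  have he : ∀ c : F, ρ (tv (Pi.single (Sum.inl (⟨0, hn⟩ : Fin n)) 1) c) = 1 := by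
    intro c
    have h0 : ∀ c : F, ρ (sRad (rEl c (Pi.single (⟨0, hn⟩ : Fin n) 1))) = 1 := fun c => h _
    have key : ∀ c : F, ∃ d : F, tv (Pi.single (Sum.inl (⟨0, hn⟩ : Fin n)) 1) c =
        sRad (rEl d (Pi.single (⟨0, hn⟩ : Fin n) 1)) := by
      intro c
      obtain ⟨ε, hε⟩ : ∃ ε : F, ∀ x : Fin n ⊕ Fin n → F,
          Cfsg.sympForm n F (Pi.single (Sum.inl (⟨0, hn⟩ : Fin n)) 1) x =
            ε * x (Sum.inr ⟨0, hn⟩) ∧
          Cfsg.sympForm n F x (Pi.single (Sum.inl (⟨0, hn⟩ : Fin n)) 1) =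
            -ε * x (Sum.inr ⟨0, hn⟩) := by
        refine ⟨Cfsg.sympForm n F (Pi.single (Sum.inl (⟨0, hn⟩ : Fin n)) 1)
          (Pi.single (Sum.inr (⟨0, hn⟩ : Fin n)) 1), fun x => ⟨?_, ?_⟩⟩
        · simp [sympForm_eq, Pi.single_apply]
        · simp [sympForm_eq, Pi.single_apply]
      refine ⟨-(c * ε), sp_ext fun x => ?_⟩
      rw [tv_mulVec]
      funext r
      rcases r with r | r
      · simp [sRad, coe_rEl, Matrix.fromBlocks_mulVec, Matrix.vecMulVec_mulVec, Matrix.smul_mulVec, Matrix.neg_mulVec,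
          (hε x).1, (hε x).2, Pi.single_apply]
        split_ifs <;> ring
      · simp [sRad, coe_rEl, Matrix.fromBlocks_mulVec, Matrix.vecMulVec_mulVec, Matrix.smul_mulVec, Matrix.neg_mulVec,
          (hε x).1, (hε x).2, Pi.single_apply]
    obtain ⟨d, hd⟩ := key c
    rw [hd, h0]
  have hall : ∀ (v : Fin n ⊕ Fin n → F) (c : F), ρ (tv v c) = 1 := by
    intro v c
    by_cases hv : v = 0
    · have : tv v c = 1 := sp_ext fun x => by rw [tv_mulVec, hv]; simp
      rw [this, map_one]
    obtain ⟨A, hA⟩ := Cfsg.Agent.Classical.Symplectic.exists_move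
      (u := Pi.single (Sum.inl (⟨0, hn⟩ : Fin n)) 1) (fun h0 => by
        have := congrFun h0 (Sum.inl ⟨0, hn⟩); simp at this) hv
    rw [← hA, ← Cfsg.Agent.Classical.Symplectic.tv_conj, map_mul, map_mul, he, mul_one, ← map_mul,
      mul_inv_cancel, map_one]
  have hg : g ∈ Subgroup.closure (tvSet (F := F) (m := n) ∅) := by
    rw [closure_tvSet_eq_top]; exact Subgroup.mem_top g
  refine Subgroup.closure_induction (p := fun g _ => ρ g = 1) ?_ (map_one ρ)
    (fun x y _ _ hx hy => by rw [map_mul, hx, hy, mul_one]) (fun x _ hx => ?_) hg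
  · rintro A ⟨w, c, -, hA⟩
    have : A = tv w c := Subtype.ext hA
    rw [this, hall]
  · have := congrArg (ρ x⁻¹ * ·) hx
    simp only [← map_mul, inv_mul_cancel, map_one, mul_one] at this
    exact this.symm

theorem exists_ne_one {k : ℕ}
    (ρ : Representation ℂ (Matrix.symplecticGroup (Fin n) F) (Fin k → ℂ))
    (hρ : ρ.IsIrreducible) (hk : 2 ≤ k) : ∃ g, ρ g ≠ 1 := by
  by_contra htriv
  push Not at htriv
  obtain ⟨-, hU⟩ := (Cfsg.Agent.Characters.isIrreducible_iff ρ).1 hρ
  let v : Fin k → ℂ := Pi.single ⟨0, by omega⟩ 1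
  rcases hU (Submodule.span ℂ {v}) (fun g w hw => by rw [htriv]; exact hw) with h1 | h1
  · rw [Submodule.span_singleton_eq_bot] at h1
    exact one_ne_zero (by simpa [v] using congrFun h1 ⟨0, by omega⟩ : (1 : ℂ) = 0)
  · have h2 := finrank_span_le_card ({v} : Set (Fin k → ℂ)) (R := ℂ)
    rw [h1, finrank_top, Module.finrank_fintype_fun_eq_card, Fintype.card_fin] at h2
    simp at h2
    omega

end Cfsg.Agent.Classical.SympMinDeg
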