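import Mathlib
import Cfsg.Agent.Lib.Classical.SympMinDeg.Basic

/-!
# Large families of congruent quadratic forms

A non-zero quadratic form in `n` variables over a field of odd order `q` has at least
`(q^n - 1)/2` congruent forms; one with non-zero polar form over a field of even order has at least
`(q^n - 1)(q^n - q)/(2(q + 1))`.
-/

set_option autoImplicit false
set_option linter.unusedSectionVars false

namespace Cfsg.Agent.Classical.SympMinDeg

open Matrix

variable {F : Type*} [Field F] {n : ℕ}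

local notation "Vec" => (Fin n → F)

/-- An invertible matrix with prescribed columns. -/
theorem exists_unit_cols {r : ℕ} (p : Fin r → Fin n) (hp : Function.Injective p)
    (v : Fin r → Fin n → F) (hv : LinearIndependent F v) :
    ∃ P : Matrix (Fin n) (Fin n) F, IsUnit P ∧ ∀ a, P *ᵥ Pi.single (p a) 1 = v a := by
  classical
  let b := Module.Basis.extend hv.linearIndepOn_id
  let e := b.indexEquiv (Pi.basisFun F (Fin n))
  have hmem : ∀ a, v a ∈ hv.linearIndepOn_id.extend (Set.subset_univ (Set.range v)) :=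
    fun a => hv.linearIndepOn_id.subset_extend _ ⟨a, rfl⟩
  let f : Fin r → Fin n := fun a => e ⟨v a, hmem a⟩
  have hf : Function.Injective f := fun a a' h =>
    hv.injective (congrArg Subtype.val (e.injective h))
  let σ : Equiv.Perm (Fin n) := ((Equiv.ofInjective f hf).symm.trans
    (Equiv.ofInjective p hp)).extendSubtype
  have hσ : ∀ a, σ (f a) = p a := by
    intro a
    show Equiv.extendSubtype _ (f a) = p a
    rw [Equiv.extendSubtype_apply_of_mem _ _ ⟨a, rfl⟩]
    simp [Equiv.ofInjective_apply]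
  let b' := b.reindex (e.trans σ)
  let P : Matrix (Fin n) (Fin n) F := Matrix.of fun i j => b' j i
  have hcol : ∀ j, P *ᵥ Pi.single j 1 = b' j := fun j => by
    rw [Matrix.mulVec_single_one]; rfl
  refine ⟨P, Matrix.linearIndependent_cols_iff_isUnit.1 b'.linearIndependent, fun a => ?_⟩
  rw [hcol, ← hσ a]
  have e1 : σ (f a) = (e.trans σ) ⟨v a, hmem a⟩ := rfl
  rw [e1, Module.Basis.reindex_apply, Equiv.symm_apply_apply, Module.Basis.extend_apply_self]

/-- `1 + e_i αᵀ`. -/
def addRow (i : Fin n) (α : Fin n → F) : Matrix (Fin n) (Fin n) F :=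
  1 + Matrix.vecMulVec (Pi.single i 1) α

theorem addRow_mulVec (i : Fin n) (α : Fin n → F) (l : Fin n) :
    addRow i α *ᵥ Pi.single l 1 = Pi.single l 1 + α l • Pi.single i 1 := by
  rw [addRow, Matrix.add_mulVec, Matrix.one_mulVec, Matrix.vecMulVec_mulVec]
  congr 1
  funext r
  simp [mul_comm]

theorem isUnit_addRow (i : Fin n) {α : Fin n → F} (h : α i = 0) : IsUnit (addRow i α) := by
  rw [Matrix.isUnit_iff_isUnit_det, addRow, Matrix.vecMulVec_eq Unit,
    Matrix.det_one_add_replicateCol_mul_replicateRow]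
  simp [h]

variable (Q : QuadraticForm F (Fin n → F))

local notation "B" => QuadraticMap.polar Q

theorem map_add_smul (x y : Vec) (t : F) :
    Q (x + t • y) = Q x + t * t * Q y + t * B x y := by
  rw [QuadraticMap.map_add (f := ⇑Q), QuadraticMap.map_smul, QuadraticMap.polar_smul_right]
  simp [smul_eq_mul]

variable [Fintype F]

section Odd

variable (hodd : ringChar F ≠ 2)

include hodd in
theorem exists_eq_of_two {c r : F} (hc : c ≠ 0) (hr : r ≠ 0) (κ : F) :
    ∃ x y : F, c * (x * x) + r * (y * y) = κ := by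
  have hF : Fintype.card F % 2 = 1 := FiniteField.odd_card_of_char_ne_two hodd
  have hf : (Polynomial.C c * Polynomial.X ^ 2).degree = 2 := Polynomial.degree_C_mul_X_pow 2 hc
  have hg : (Polynomial.C r * Polynomial.X ^ 2 - Polynomial.C κ).degree = 2 := by
    rw [Polynomial.degree_sub_eq_left_of_degree_lt] <;> rw [Polynomial.degree_C_mul_X_pow 2 hr]
    · rfl
    · exact lt_of_le_of_lt Polynomial.degree_C_le (by norm_num)
  obtain ⟨a, b, h⟩ := FiniteField.exists_root_sum_quadratic hf hg hF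
  simp only [Polynomial.eval_mul, Polynomial.eval_C, Polynomial.eval_pow, Polynomial.eval_X,
    Polynomial.eval_sub] at h
  exact ⟨a, b, by linear_combination h⟩

include hodd in
/-- The odd case. -/
theorem exists_family_odd (hQ : ∃ v, Q v ≠ 0) (hn : 1 ≤ n) :
    ∃ (ι : Type) (_ : Finite ι) (M : ι → Matrix (Fin n) (Fin n) F), (∀ x, IsUnit (M x)) ∧
      (∀ x y, (∀ b, Q (M x *ᵥ b) = Q (M y *ᵥ b)) → x = y) ∧
      (Fintype.card F ^ n - 1) / 2 ≤ Nat.card ι := by
  classical
  have h2 : (2 : F) ≠ 0 := Ring.two_ne_zero hodd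
  suffices h : ∃ (ι : Type _) (_ : Finite ι) (M : ι → Matrix (Fin n) (Fin n) F),
      (∀ x, IsUnit (M x)) ∧ (∀ x y, (∀ b, Q (M x *ᵥ b) = Q (M y *ᵥ b)) → x = y) ∧
      (Fintype.card F ^ n - 1) / 2 ≤ Nat.card ι by
    obtain ⟨ι, _, M, h1, h2, h3⟩ := h
    obtain ⟨k, ⟨e⟩⟩ := Finite.exists_equiv_fin ι
    exact ⟨Fin k, inferInstance, M ∘ e.symm, fun x => h1 _,
      fun x y h => e.symm.injective (h2 _ _ h), by rwa [Nat.card_congr e] at h3⟩
  obtain ⟨v, hv⟩ := hQ
  have hv0 : v ≠ 0 := fun h => hv (by rw [h, QuadraticMap.map_zero])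
  have hBvv : B v v = 2 * Q v := by rw [QuadraticMap.polar_self]; simp [smul_eq_mul]
  by_cases hall : ∀ κ : F, κ ≠ 0 → ∃ w, Q w = κ
  · -- every non-zero value occurs
    obtain ⟨i₀, hi₀⟩ : ∃ i₀ : Fin n, i₀ = ⟨0, hn⟩ := ⟨_, rfl⟩
    choose w hw using hall
    have hP : ∀ κ : {κ : F // κ ≠ 0}, ∃ P : Matrix (Fin n) (Fin n) F, IsUnit P ∧
        P *ᵥ Pi.single i₀ 1 = w κ.1 κ.2 := by
      intro κ
      have hw0 : w κ.1 κ.2 ≠ 0 := fun h => κ.2 (by rw [← hw κ.1 κ.2, h, QuadraticMap.map_zero])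
      obtain ⟨P, hP, hc⟩ := exists_unit_cols (fun _ : Fin 1 => i₀) (fun a b _ => Subsingleton.elim a b)
        (fun _ => w κ.1 κ.2) (linearIndependent_unique_iff.2 hw0)
      exact ⟨P, hP, hc 0⟩
    choose P hPu hPc using hP
    let α : ({k : Fin n // i₀ < k} → F) → Fin n → F := fun d k => if h : i₀ < k then d ⟨k, h⟩ else 0
    refine ⟨{κ : F // κ ≠ 0} × ({k : Fin n // i₀ < k} → F), inferInstance,
      fun x => P x.1 * addRow i₀ (α x.2), fun x => (hPu _).mul (isUnit_addRow _ (by simp [α])), ?_,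
      ?_⟩
    · rintro ⟨κ, d⟩ ⟨κ', d'⟩ h
      have hcol : ∀ x : {κ : F // κ ≠ 0} × ({k : Fin n // i₀ < k} → F), ∀ l,
          (P x.1 * addRow i₀ (α x.2)) *ᵥ Pi.single l 1 =
            P x.1 *ᵥ Pi.single l 1 + α x.2 l • w x.1.1 x.1.2 := fun x l => by
        rw [← Matrix.mulVec_mulVec, addRow_mulVec, Matrix.mulVec_add, Matrix.mulVec_smul, hPc]
      have hcol0 : ∀ x : {κ : F // κ ≠ 0} × ({k : Fin n // i₀ < k} → F),
          (P x.1 * addRow i₀ (α x.2)) *ᵥ Pi.single i₀ 1 = w x.1.1 x.1.2 := fun x => by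
        rw [hcol, hPc]; simp [α]
      obtain rfl : κ = κ' := by
        apply Subtype.ext
        have h0 := h (Pi.single i₀ 1)
        rw [hcol0 ⟨κ, d⟩, hcol0 ⟨κ', d'⟩, hw, hw] at h0
        exact h0
      obtain rfl : d = d' := by
        funext k
        have hB : B ((P κ * addRow i₀ (α d)) *ᵥ Pi.single i₀ 1)
            ((P κ * addRow i₀ (α d)) *ᵥ Pi.single k.1 1) =
            B ((P κ * addRow i₀ (α d')) *ᵥ Pi.single i₀ 1)
            ((P κ * addRow i₀ (α d')) *ᵥ Pi.single k.1 1) := by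
          simp only [QuadraticMap.polar, ← Matrix.mulVec_add]
          rw [h, h, h]
        rw [hcol0 ⟨κ, d⟩, hcol0 ⟨κ, d'⟩, hcol ⟨κ, d⟩, hcol ⟨κ, d'⟩,
          QuadraticMap.polar_add_right, QuadraticMap.polar_add_right, add_right_inj,
          QuadraticMap.polar_smul_right, QuadraticMap.polar_smul_right, QuadraticMap.polar_self,
          hw] at hB
        simp only [α, dif_pos k.2, smul_eq_mul] at hB
        exact mul_right_cancel₀ (by simpa [nsmul_eq_mul] using mul_ne_zero h2 κ.2) hB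
      rfl
    · rw [Nat.card_prod, Nat.card_fun, Nat.card_eq_fintype_card (α := F), Nat.card_eq_fintype_card,
        Nat.card_eq_fintype_card, Fintype.card_subtype_compl, Fintype.card_subtype_eq,
        Fintype.card_subtype]
      have h3 : (Finset.univ.filter fun k : Fin n => i₀ < k) = Finset.Ioi i₀ := by ext k; simp
      rw [h3, Fin.card_Ioi, hi₀]
      obtain ⟨m, rfl⟩ : ∃ m, n = m + 1 := ⟨n - 1, by omega⟩
      obtain ⟨r, hr⟩ : ∃ r, Fintype.card F = r + 2 :=
        ⟨Fintype.card F - 2, by have := Fintype.one_lt_card (α := F); omega⟩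
      simp only [hr, Nat.add_sub_cancel, Nat.sub_zero]
      have : (r + 2 - 1) = r + 1 := by omega
      rw [this, pow_succ]
      apply Nat.div_le_of_le_mul
      have : (r + 2) ^ m * (r + 2) ≤ 2 * ((r + 1) * (r + 2) ^ m) := by
        have h4 : (r + 2) ^ m * (r + 2) ≤ (r + 2) ^ m * (2 * (r + 1)) :=
          Nat.mul_le_mul_left _ (by omega)
        calc (r + 2) ^ m * (r + 2) ≤ (r + 2) ^ m * (2 * (r + 1)) := h4
          _ = _ := by ring
      omega
  · -- some value does not occur: all vectors orthogonal to `v` are singular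
    push Not at hall
    obtain ⟨κ₀, hκ₀, hκ⟩ := hall
    have hsing : ∀ u, B v u = 0 → Q u = 0 := by
      intro u hu
      by_contra hr
      obtain ⟨x, y, hxy⟩ := exists_eq_of_two hodd hv hr κ₀
      refine hκ (x • v + y • u) ?_
      rw [QuadraticMap.map_add (f := ⇑Q), QuadraticMap.map_smul, QuadraticMap.map_smul,
        QuadraticMap.polar_smul_left, QuadraticMap.polar_smul_right, hu]
      simp only [smul_eq_mul, mul_zero, add_zero]
      linear_combination hxy
    have hP : ∀ i : Fin n, ∃ P : Matrix (Fin n) (Fin n) F, IsUnit P ∧ P *ᵥ Pi.single i 1 = v ∧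
        ∀ l, l ≠ i → Q (P *ᵥ Pi.single l 1) = 0 ∧ B v (P *ᵥ Pi.single l 1) = 0 := by
      intro i
      obtain ⟨P, hP, hc⟩ := exists_unit_cols (fun _ : Fin 1 => i) (fun a b _ => Subsingleton.elim a b)
        (fun _ => v) (linearIndependent_unique_iff.2 hv0)
      have hci : P *ᵥ Pi.single i 1 = v := hc 0
      let a : Fin n → F := fun l => if l = i then 0 else - B v (P *ᵥ Pi.single l 1) / (2 * Q v)
      have hcol : ∀ l, (P * addRow i a) *ᵥ Pi.single l 1 = P *ᵥ Pi.single l 1 + a l • v := fun l => by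
        rw [← Matrix.mulVec_mulVec, addRow_mulVec, Matrix.mulVec_add, Matrix.mulVec_smul, hci]
      refine ⟨P * addRow i a, hP.mul (isUnit_addRow _ (by simp [a])), ?_, fun l hl => ?_⟩
      · rw [hcol, hci]; simp [a]
      · have h0 : B v ((P * addRow i a) *ᵥ Pi.single l 1) = 0 := by
          rw [hcol, QuadraticMap.polar_add_right, QuadraticMap.polar_smul_right, hBvv, smul_eq_mul]
          simp only [a, if_neg hl]
          have : (2 : F) * Q v ≠ 0 := mul_ne_zero h2 hv
          field_simp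
          ring
        exact ⟨hsing _ h0, h0⟩
    choose P hPu hPi hPl using hP
    let sq := MonoidHom.range (powMonoidHom 2 : Fˣ →* Fˣ)
    choose t ht using fun s : sq => s.2
    let α : (i : Fin n) → sq → ({k : Fin n // i < k} → F) → Fin n → F :=
      fun i _ d k => if h : i < k then d ⟨k, h⟩ else 0
    let M : (Σ i : Fin n, sq × ({k : Fin n // i < k} → F)) → Matrix (Fin n) (Fin n) F := fun x =>
      P x.1 * Matrix.diagonal (Function.update (1 : Fin n → F) x.1 (t x.2.1 : F)) *
        addRow x.1 (α x.1 x.2.1 x.2.2)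
    have hD : ∀ (i : Fin n) (s : F) l, Matrix.diagonal (Function.update (1 : Fin n → F) i s) *ᵥ
        Pi.single l 1 = (if l = i then s else 1) • Pi.single l 1 := by
      intro i s l
      funext r
      rw [Matrix.mulVec_diagonal, Pi.smul_apply, smul_eq_mul]
      by_cases hr : r = l
      · subst hr; by_cases hri : r = i <;> simp [hri]
      · simp [hr]
    have hcol : ∀ x l, M x *ᵥ Pi.single l 1 =
        (if l = x.1 then (t x.2.1 : F) else 1) • (P x.1 *ᵥ Pi.single l 1) +
          (α x.1 x.2.1 x.2.2 l * t x.2.1) • v := fun x l => by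
      simp only [M, ← Matrix.mulVec_mulVec, addRow_mulVec, Matrix.mulVec_add, Matrix.mulVec_smul, hD,
        if_true, hPi, smul_smul]
    have hval : ∀ x, Q (M x *ᵥ Pi.single x.1 1) = ((x.2.1 : Fˣ) : F) * Q v := fun x => by
      rw [hcol, if_pos rfl, hPi]
      have : α x.1 x.2.1 x.2.2 x.1 = 0 := by simp [α]
      rw [this, zero_mul, zero_smul, add_zero, QuadraticMap.map_smul, smul_eq_mul]
      have h := congrArg Units.val (ht x.2.1)
      simp only [powMonoidHom_apply, Units.val_pow_eq_pow_val] at h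
      rw [← h]; ring
    have hlow : ∀ x l, l < x.1 → Q (M x *ᵥ Pi.single l 1) = 0 := fun x l hl => by
      rw [hcol, if_neg hl.ne, one_smul]
      have : α x.1 x.2.1 x.2.2 l = 0 := by simp [α, hl.not_gt]
      rw [this, zero_mul, zero_smul, add_zero]
      exact (hPl x.1 l hl.ne).1
    refine ⟨Σ i : Fin n, sq × ({k : Fin n // i < k} → F), inferInstance, M,
      fun x => ((hPu _).mul ?_).mul (isUnit_addRow _ (by simp [α])), ?_, ?_⟩
    · rw [Matrix.isUnit_iff_isUnit_det, Matrix.det_diagonal,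
        Finset.prod_update_of_mem (Finset.mem_univ _)]
      simp
    · rintro ⟨i, s, d⟩ ⟨i', s', d'⟩ h
      have hne : ∀ x, Q (M x *ᵥ Pi.single x.1 1) ≠ 0 := fun x => by
        rw [hval]; exact mul_ne_zero (Units.ne_zero _) hv
      obtain rfl : i = i' := by
        refine le_antisymm (not_lt.1 fun hlt => ?_) (not_lt.1 fun hlt => ?_)
        · exact hne ⟨i', s', d'⟩ (by rw [← h, hlow ⟨i, s, d⟩ i' hlt])
        · exact hne ⟨i, s, d⟩ (by rw [h, hlow ⟨i', s', d'⟩ i hlt])
      obtain rfl : s = s' := by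
        have h0 := h (Pi.single i 1)
        rw [hval ⟨i, s, d⟩, hval ⟨i, s', d'⟩] at h0
        exact Subtype.ext (Units.ext (mul_right_cancel₀ hv h0))
      obtain rfl : d = d' := by
        funext k
        have hB : B (M ⟨i, s, d⟩ *ᵥ Pi.single i 1) (M ⟨i, s, d⟩ *ᵥ Pi.single k.1 1) =
            B (M ⟨i, s, d'⟩ *ᵥ Pi.single i 1) (M ⟨i, s, d'⟩ *ᵥ Pi.single k.1 1) := by
          simp only [QuadraticMap.polar, ← Matrix.mulVec_add]
          rw [h, h, h]
        have hi0 : ∀ d, α i s d i = 0 := fun d => by simp [α]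
        simp only [hcol, if_true, hi0, zero_mul, zero_smul, add_zero, hPi, if_neg k.2.ne',
          one_smul, QuadraticMap.polar_smul_left, QuadraticMap.polar_add_right,
          QuadraticMap.polar_smul_right, (hPl i k.1 k.2.ne').2, hBvv, smul_eq_mul, zero_add] at hB
        simp only [α, dif_pos k.2] at hB
        exact mul_right_cancel₀ (Units.ne_zero (t s)) (mul_right_cancel₀ (mul_ne_zero h2 hv)
          (mul_left_cancel₀ (Units.ne_zero (t s)) (by linear_combination hB)))
      rfl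
    · have hk : ∀ i : Fin n, Nat.card {k : Fin n // i < k} = n - 1 - i := fun i => by
        rw [Nat.card_eq_fintype_card, Fintype.card_subtype]
        have : (Finset.univ.filter fun k : Fin n => i < k) = Finset.Ioi i := by ext k; simp
        rw [this, Fin.card_Ioi]
      simp only [Nat.card_sigma, Nat.card_prod, Nat.card_fun, hk,
        Nat.card_eq_fintype_card (α := F)]
      rw [← Finset.mul_sum, Fin.sum_univ_eq_sum_range (fun i => Fintype.card F ^ (n - 1 - i)) n,
        Finset.sum_range_reflect (fun i => Fintype.card F ^ i) n]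
      have hsq := Cfsg.Agent.KnownSimple.CrossCharDegree.card_squares (F := F)
        (Nat.odd_iff.2 (FiniteField.odd_card_of_char_ne_two hodd))
      obtain ⟨r, hr⟩ : ∃ r, Fintype.card F = 2 * r + 1 :=
        Nat.odd_iff.2 (FiniteField.odd_card_of_char_ne_two hodd)
      rw [hr] at hsq ⊢
      have hg := geom_sum_mul_add (2 * r) n
      refine le_trans ?_ (Nat.mul_le_mul_right _ hsq)
      rw [← hg, Nat.add_sub_cancel]
      have : (2 * r + 1 - 1) / 2 = r := by omega
      rw [this]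
      apply Nat.div_le_of_le_mul
      exact le_of_eq (by ring)

end Odd

section Even

variable [CharP F 2]

/-- The size of the sum over positions. -/
theorem sum_positions (q n : ℕ) :
    2 * ((q + 1) * ((q - 1) * (q - 1) * (∑ m ∈ Finset.range n,
      ∑ j ∈ Finset.range m, q ^ (2 * m - 2 - j)))) * q =
      2 * ((q ^ n - 1) * (q ^ n - q)) := by
  rcases Nat.eq_zero_or_pos q with rfl | hq
  · rcases n with _ | n <;> simp
  induction n with
  | zero => simp
  | succ n ih =>
    rw [Finset.sum_range_succ, mul_add, mul_add, mul_add, add_mul, ih]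
    rcases n with _ | n
    · simp
    have hS : (q - 1) * ∑ j ∈ Finset.range (n + 1), q ^ (2 * (n + 1) - 2 - j) =
        q ^ n * (q ^ (n + 1) - 1) := by
      rw [← Finset.sum_range_reflect]
      have : ∀ j ∈ Finset.range (n + 1), q ^ (2 * (n + 1) - 2 - (n + 1 - 1 - j)) = q ^ n * q ^ j := by
        intro j hj
        rw [Finset.mem_range] at hj
        rw [← pow_add]
        congr 1
        omega
      rw [Finset.sum_congr rfl this, ← Finset.mul_sum]
      have h := geom_sum_mul_add (q - 1) (n + 1)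
      rw [Nat.sub_add_cancel (show 1 ≤ q from hq)] at h
      rw [← h, Nat.add_sub_cancel]
      ring
    rw [mul_assoc (q - 1) (q - 1), hS]
    obtain ⟨p, rfl⟩ : ∃ p, q = p + 1 := ⟨q - 1, by omega⟩
    have h1 : 1 ≤ (p + 1) ^ (n + 1) := Nat.one_le_pow _ _ (by omega)
    have h2 : p + 1 ≤ (p + 1) ^ (n + 1) := Nat.le_self_pow (by omega) _
    have h3 : 1 ≤ (p + 1) ^ (n + 1 + 1) := Nat.one_le_pow _ _ (by omega)
    have h4 : p + 1 ≤ (p + 1) ^ (n + 1 + 1) := Nat.le_self_pow (by omega) _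
    simp only [Nat.add_sub_cancel]
    zify [h1, h2, h3, h4]
    ring

theorem exists_half_image {c b : F} (hc : c ≠ 0) (hb : b ≠ 0) :
    ∃ g : Fin (Fintype.card F / 2) → F, Function.Injective fun j => c * (g j * g j) + b * g j := by
  classical
  let φ : F → F := fun d => c * (d * d) + b * d
  have hfib : ∀ y ∈ Finset.univ.image φ, (Finset.univ.filter fun d => φ d = y).card ≤ 2 := by
    intro y hy
    obtain ⟨d₀, -, rfl⟩ := Finset.mem_image.1 hy
    refine le_trans (Finset.card_le_card (t := {d₀, d₀ + b / c}) fun d hd => ?_) Finset.card_le_two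
    simp only [Finset.mem_filter, φ] at hd
    have h2 : (2 : F) = 0 := CharTwo.two_eq_zero
    have h : (d - d₀) * (c * (d - d₀) + b) = 0 := by
      linear_combination hd.2 + (c * (d₀ * d₀) - c * d * d₀) * h2
    rcases mul_eq_zero.1 h with h | h
    · simp [sub_eq_zero.1 h]
    · have : d = d₀ + b / c := by
        field_simp
        linear_combination h - b * h2
      simp [this]
  have hcard := Finset.card_le_mul_card_image (f := φ) Finset.univ 2 hfib
  rw [Finset.card_univ] at hcard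
  have hle : Fintype.card (Fin (Fintype.card F / 2)) ≤ Fintype.card (Finset.univ.image φ) := by
    rw [Fintype.card_fin, Fintype.card_coe]
    omega
  obtain ⟨emb⟩ := Function.Embedding.nonempty_of_card_le hle
  have hex : ∀ j, ∃ d, φ d = (emb j : F) := fun j => by
    obtain ⟨d, -, hd⟩ := Finset.mem_image.1 (emb j).2
    exact ⟨d, hd⟩
  choose g hg using hex
  exact ⟨g, fun j j' h => emb.injective (Subtype.ext (by rw [← hg, ← hg]; exact h))⟩

/-- A basis adapted to the pair `(i, k)`. -/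
theorem exists_base {v w : Vec} (hv : Q v ≠ 0) (hvw : B v w ≠ 0) {i k : Fin n} (hik : i ≠ k)
    {κ b : F} (hκ : κ ≠ 0) (hb : b ≠ 0) :
    ∃ P : Matrix (Fin n) (Fin n) F, IsUnit P ∧ Q (P *ᵥ Pi.single i 1) = κ ∧
      B (P *ᵥ Pi.single i 1) (P *ᵥ Pi.single k 1) = b ∧
      ∀ l, l ≠ i → l ≠ k → Q (P *ᵥ Pi.single l 1) = 0 ∧
        B (P *ᵥ Pi.single i 1) (P *ᵥ Pi.single l 1) = 0 := by
  classical
  have hself : ∀ x : Vec, B x x = 0 := fun x => by
    rw [QuadraticMap.polar_self, two_nsmul, CharTwo.add_self_eq_zero]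
  obtain ⟨t, ht⟩ : IsSquare (κ / Q v) := FiniteField.isSquare_of_char_two (ringChar.eq F 2) _
  have ht0 : t ≠ 0 := by
    rintro rfl
    rw [mul_zero, div_eq_zero_iff] at ht
    exact ht.elim hκ hv
  obtain ⟨s, hs⟩ : ∃ s, s = b / (t * B v w) := ⟨_, rfl⟩
  have hV : Q (t • v) = κ := by
    rw [QuadraticMap.map_smul, smul_eq_mul, ← ht, div_mul_cancel₀ _ hv]
  have hVW : B (t • v) (s • w) = b := by
    rw [QuadraticMap.polar_smul_left, QuadraticMap.polar_smul_right, hs, smul_eq_mul, smul_eq_mul]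
    field_simp
  have hli : LinearIndependent F ![t • v, s • w] := by
    refine LinearIndependent.pair_iff.2 fun x y hxy => ?_
    have h := congrArg (B (t • v)) hxy
    rw [QuadraticMap.polar_add_right, QuadraticMap.polar_smul_right (a := x),
      QuadraticMap.polar_smul_right (a := y), hVW, hself, QuadraticMap.polar_zero_right,
      smul_eq_mul, smul_eq_mul, mul_zero, zero_add] at h
    have hy : y = 0 := (mul_eq_zero.1 h).resolve_right hb
    rw [hy, zero_smul, add_zero, smul_smul] at hxy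
    refine ⟨?_, hy⟩
    rcases smul_eq_zero.1 hxy with h | h
    · exact (mul_eq_zero.1 h).resolve_right ht0
    · exact absurd (by rw [h, QuadraticMap.map_zero]) hv
  obtain ⟨P, hP, hc⟩ := exists_unit_cols ![i, k] (by
    intro a a' h
    fin_cases a <;> fin_cases a' <;> simp_all) _ hli
  have hci : P *ᵥ Pi.single i 1 = t • v := hc 0
  have hck : P *ᵥ Pi.single k 1 = s • w := hc 1
  let β : Fin n → F := fun l => if l = i ∨ l = k then 0 else B (t • v) (P *ᵥ Pi.single l 1) / b
  let X : Fin n → Vec := fun l => P *ᵥ Pi.single l 1 + β l • (s • w)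
  have hex : ∀ l, ∃ a : F, l ≠ i → l ≠ k → Q (X l) + a * a * κ = 0 := fun l => by
    obtain ⟨a, ha⟩ : IsSquare (Q (X l) / κ) :=
      FiniteField.isSquare_of_char_two (ringChar.eq F 2) _
    exact ⟨a, fun _ _ => by rw [← ha, div_mul_cancel₀ _ hκ, CharTwo.add_self_eq_zero]⟩
  choose a ha using hex
  let α : Fin n → F := fun l => if l = i ∨ l = k then 0 else a l
  have hcol : ∀ l, (P * (addRow k β * addRow i α)) *ᵥ Pi.single l 1 =
      X l + α l • (t • v) := fun l => by
    simp only [← Matrix.mulVec_mulVec, addRow_mulVec, Matrix.mulVec_add, Matrix.mulVec_smul, hci,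
      hck, X]
    have : β i = 0 := by simp [β]
    rw [this, zero_smul, add_zero]
  have hci' : (P * (addRow k β * addRow i α)) *ᵥ Pi.single i 1 = t • v := by
    rw [hcol]; simp only [X, α, β, true_or, if_true, zero_smul, add_zero, hci]
  have hck' : (P * (addRow k β * addRow i α)) *ᵥ Pi.single k 1 = s • w := by
    rw [hcol]; simp only [X, α, β, or_true, if_true, zero_smul, add_zero, hck]
  refine ⟨P * (addRow k β * addRow i α),
    hP.mul ((isUnit_addRow _ (by simp [β])).mul (isUnit_addRow _ (by simp [α]))),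
    by rw [hci', hV], by rw [hci', hck', hVW], fun l hli hlk => ?_⟩
  have hX : B (t • v) (X l) = 0 := by
    simp only [X]
    rw [QuadraticMap.polar_add_right, QuadraticMap.polar_smul_right (a := β l), hVW, smul_eq_mul]
    simp only [β, if_neg (not_or.2 ⟨hli, hlk⟩), div_mul_cancel₀ _ hb]
    exact CharTwo.add_self_eq_zero _
  have hαl : α l = a l := if_neg (not_or.2 ⟨hli, hlk⟩)
  refine ⟨?_, ?_⟩
  · rw [hcol, hαl, map_add_smul, QuadraticMap.polar_comm, hX, hV, mul_zero, add_zero,
      ha l hli hlk]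
  · rw [hci', hcol, QuadraticMap.polar_add_right, hX, QuadraticMap.polar_smul_right (a := α l),
      hself, smul_zero, add_zero]

/-- The even case. -/
theorem exists_family_even {v₀ w₀ : Vec} (hvw₀ : B v₀ w₀ ≠ 0) :
    ∃ (ι : Type) (_ : Finite ι) (M : ι → Matrix (Fin n) (Fin n) F), (∀ x, IsUnit (M x)) ∧
      (∀ x y, (∀ b, Q (M x *ᵥ b) = Q (M y *ᵥ b)) → x = y) ∧
      (Fintype.card F ^ n - 1) * (Fintype.card F ^ n - Fintype.card F) /
        (2 * (Fintype.card F + 1)) ≤ Nat.card ι := by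
  classical
  suffices h : ∃ (ι : Type _) (_ : Finite ι) (M : ι → Matrix (Fin n) (Fin n) F),
      (∀ x, IsUnit (M x)) ∧ (∀ x y, (∀ b, Q (M x *ᵥ b) = Q (M y *ᵥ b)) → x = y) ∧
      (Fintype.card F ^ n - 1) * (Fintype.card F ^ n - Fintype.card F) /
        (2 * (Fintype.card F + 1)) ≤ Nat.card ι by
    obtain ⟨ι, _, M, h1, h2, h3⟩ := h
    obtain ⟨k, ⟨e⟩⟩ := Finite.exists_equiv_fin ι
    exact ⟨Fin k, inferInstance, M ∘ e.symm, fun x => h1 _,
      fun x y h => e.symm.injective (h2 _ _ h), by rwa [Nat.card_congr e] at h3⟩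
  obtain ⟨v, w, hv, hvw⟩ : ∃ v w, Q v ≠ 0 ∧ B v w ≠ 0 := by
    by_cases hv : Q v₀ = 0
    · by_cases hw : Q w₀ = 0
      · refine ⟨v₀ + w₀, w₀, ?_, ?_⟩
        · rw [QuadraticMap.map_add (f := ⇑Q), hv, hw, zero_add, zero_add]; exact hvw₀
        · rw [QuadraticMap.polar_add_left, QuadraticMap.polar_self, two_nsmul,
            CharTwo.add_self_eq_zero, add_zero]
          exact hvw₀
      · exact ⟨w₀, v₀, hw, by rwa [QuadraticMap.polar_comm]⟩
    · exact ⟨v₀, w₀, hv, hvw₀⟩
  let kk : (i : Fin n) → Fin (n - 1 - i) → Fin n := fun i j =>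
    ⟨i + 1 + j, by have := j.2; omega⟩
  have hik : ∀ i j, i < kk i j := fun i j => by
    show (i : ℕ) < i + 1 + j
    omega
  have hbase : ∀ (i : Fin n) (j : Fin (n - 1 - i)) (κ b : {x : F // x ≠ 0}), ∃ P, IsUnit P ∧
      Q (P *ᵥ Pi.single i 1) = κ.1 ∧
      B (P *ᵥ Pi.single i 1) (P *ᵥ Pi.single (kk i j) 1) = b.1 ∧
      ∀ l, l ≠ i → l ≠ kk i j → Q (P *ᵥ Pi.single l 1) = 0 ∧
        B (P *ᵥ Pi.single i 1) (P *ᵥ Pi.single l 1) = 0 :=
    fun i j κ b => exists_base Q hv hvw (hik i j).ne κ.2 b.2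
  choose P hPu hPv hPb hPl using hbase
  choose g hg using fun κ b : {x : F // x ≠ 0} => exists_half_image κ.2 b.2
  let ι := Σ i : Fin n, Σ j : Fin (n - 1 - i), ({x : F // x ≠ 0} × {x : F // x ≠ 0}) ×
    Fin (Fintype.card F / 2) × ({l : Fin n // i < l ∧ l < kk i j} → F) ×
    ({l : Fin n // kk i j < l} → F × F)
  let α : ι → Fin n → F := fun x l =>
    if l = kk x.1 x.2.1 then g x.2.2.1.1 x.2.2.1.2 x.2.2.2.1
    else if h : x.1 < l ∧ l < kk x.1 x.2.1 then x.2.2.2.2.1 ⟨l, h⟩
    else if h : kk x.1 x.2.1 < l then (x.2.2.2.2.2 ⟨l, h⟩).1 else 0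
  let β : ι → Fin n → F := fun x l =>
    if h : kk x.1 x.2.1 < l then (x.2.2.2.2.2 ⟨l, h⟩).2 else 0
  have hβi : ∀ x : ι, β x x.1 = 0 := fun x => dif_neg (hik _ _).not_gt
  have hβk : ∀ x : ι, β x (kk x.1 x.2.1) = 0 := fun x => dif_neg (lt_irrefl _)
  have hαi : ∀ x : ι, α x x.1 = 0 := fun x => by
    simp [α, (hik x.1 x.2.1).ne, (hik x.1 x.2.1).not_gt]
  let P' : ι → Matrix (Fin n) (Fin n) F := fun x => P x.1 x.2.1 x.2.2.1.1 x.2.2.1.2
  let M : ι → Matrix (Fin n) (Fin n) F := fun x =>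
    P' x * (addRow (kk x.1 x.2.1) (β x) * addRow x.1 (α x))
  let V : ι → Vec := fun x => P' x *ᵥ Pi.single x.1 1
  let W : ι → Vec := fun x => P' x *ᵥ Pi.single (kk x.1 x.2.1) 1
  have hcol : ∀ x l, M x *ᵥ Pi.single l 1 =
      P' x *ᵥ Pi.single l 1 + β x l • W x + α x l • V x := fun x l => by
    simp only [M, V, W, ← Matrix.mulVec_mulVec, addRow_mulVec, Matrix.mulVec_add,
      Matrix.mulVec_smul, hβi, zero_smul, add_zero]
  have hself : ∀ x : Vec, B x x = 0 := fun x => by
    rw [QuadraticMap.polar_self, two_nsmul, CharTwo.add_self_eq_zero]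
  have hVV : ∀ x, M x *ᵥ Pi.single x.1 1 = V x := fun x => by
    rw [hcol, hβi, hαi, zero_smul, zero_smul, add_zero, add_zero]
  have hWW : ∀ x, M x *ᵥ Pi.single (kk x.1 x.2.1) 1 =
      W x + g x.2.2.1.1 x.2.2.1.2 x.2.2.2.1 • V x := fun x => by
    rw [hcol, hβk, zero_smul, add_zero]
    simp [α, W]
  have hQV : ∀ x, Q (V x) = x.2.2.1.1.1 := fun x => hPv _ _ _ _
  have hBVW : ∀ x, B (V x) (W x) = x.2.2.1.2.1 := fun x => hPb _ _ _ _
  have hQlow : ∀ x l, l < x.1 → Q (M x *ᵥ Pi.single l 1) = 0 := fun x l hl => by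
    have hlk := hl.trans (hik x.1 x.2.1)
    rw [hcol]
    have h1 : α x l = 0 := by simp [α, hlk.ne, hl.not_gt, hlk.not_gt]
    have h2 : β x l = 0 := dif_neg hlk.not_gt
    rw [h1, h2, zero_smul, zero_smul, add_zero, add_zero]
    exact (hPl _ _ _ _ l hl.ne hlk.ne).1
  have hBmid : ∀ x l, x.1 < l → l < kk x.1 x.2.1 →
      B (M x *ᵥ Pi.single x.1 1) (M x *ᵥ Pi.single l 1) = 0 := fun x l hl hlk => by
    have h2 : β x l = 0 := dif_neg hlk.not_gt
    rw [hVV, hcol, h2, zero_smul, add_zero, QuadraticMap.polar_add_right,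
      QuadraticMap.polar_smul_right, hself, smul_zero, add_zero]
    exact (hPl _ _ _ _ l hl.ne' hlk.ne).2
  refine ⟨ι, inferInstance, M, fun x => (hPu _ _ _ _).mul
    ((isUnit_addRow _ (hβk x)).mul (isUnit_addRow _ (hαi x))), ?_, ?_⟩
  · intro x y h
    have hB : ∀ b c, B (M x *ᵥ b) (M x *ᵥ c) = B (M y *ᵥ b) (M y *ᵥ c) := fun b c => by
      simp only [QuadraticMap.polar, ← Matrix.mulVec_add]
      rw [h, h, h]
    obtain ⟨i, j, ⟨κ, b⟩, d, m, u⟩ := x
    obtain ⟨i', j', ⟨κ', b'⟩, d', m', u'⟩ := y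
    obtain rfl : i = i' := by
      refine le_antisymm (not_lt.1 fun hlt => ?_) (not_lt.1 fun hlt => ?_)
      · have h0 := h (Pi.single i' 1)
        rw [hVV ⟨i', j', ⟨κ', b'⟩, d', m', u'⟩, hQV, hQlow ⟨i, j, ⟨κ, b⟩, d, m, u⟩ i' hlt] at h0
        exact κ'.2 h0.symm
      · have h0 := h (Pi.single i 1)
        rw [hVV ⟨i, j, ⟨κ, b⟩, d, m, u⟩, hQV, hQlow ⟨i', j', ⟨κ', b'⟩, d', m', u'⟩ i ?_] at h0
        · exact κ.2 h0
        · exact hlt
    obtain rfl : κ = κ' := by
      have h0 := h (Pi.single i 1)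
      rw [hVV ⟨i, j, ⟨κ, b⟩, d, m, u⟩, hVV ⟨i, j', ⟨κ', b'⟩, d', m', u'⟩, hQV, hQV] at h0
      exact Subtype.ext h0
    have hk : ∀ (j : Fin (n - 1 - i)) (b : {x : F // x ≠ 0}) (d : Fin (Fintype.card F / 2)) m u,
        B (M ⟨i, j, ⟨κ, b⟩, d, m, u⟩ *ᵥ Pi.single i 1)
          (M ⟨i, j, ⟨κ, b⟩, d, m, u⟩ *ᵥ Pi.single (kk i j) 1) = b.1 := by
      intro j b d m u
      rw [hVV ⟨i, j, ⟨κ, b⟩, d, m, u⟩, hWW ⟨i, j, ⟨κ, b⟩, d, m, u⟩, QuadraticMap.polar_add_right,
        QuadraticMap.polar_smul_right, hself, smul_zero, add_zero, hBVW]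
    obtain rfl : j = j' := by
      refine le_antisymm (not_lt.1 fun hlt => ?_) (not_lt.1 fun hlt => ?_)
      · have h0 := hk j' b' d' m' u'
        rw [← hB, hBmid ⟨i, j, ⟨κ, b⟩, d, m, u⟩ (kk i j') (hik _ _) (by
          show (i : ℕ) + 1 + j' < i + 1 + j
          have : (j' : ℕ) < j := hlt
          omega)] at h0
        exact b'.2 h0.symm
      · have h0 := hk j b d m u
        rw [hB, hBmid ⟨i, j', ⟨κ, b'⟩, d', m', u'⟩ (kk i j) (hik _ _) (by
          show (i : ℕ) + 1 + j < i + 1 + j'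
          have : (j : ℕ) < j' := hlt
          omega)] at h0
        exact b.2 h0.symm
    obtain rfl : b = b' := Subtype.ext (by
      rw [← hk j b d m u, ← hk j b' d' m' u', hB])
    obtain rfl : d = d' := by
      have h0 := h (Pi.single (kk i j) 1)
      rw [hWW ⟨i, j, ⟨κ, b⟩, d, m, u⟩, hWW ⟨i, j, ⟨κ, b⟩, d', m', u'⟩, map_add_smul,
        map_add_smul, QuadraticMap.polar_comm, hBVW, hQV] at h0
      refine hg κ b ?_
      linear_combination h0
    obtain rfl : m = m' := by
      funext l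
      have h0 := h (Pi.single l.1 1)
      have hne : l.1 ≠ kk i j := l.2.2.ne
      rw [hcol, hcol] at h0
      simp only [β, α, dif_neg l.2.2.not_gt, if_neg hne, dif_pos l.2, zero_smul, add_zero] at h0
      rw [map_add_smul, map_add_smul, QuadraticMap.polar_comm] at h0
      simp only [V, P'] at h0
      have hz := hPl i j κ b l.1 l.2.1.ne' hne
      simp only [hz.1, hz.2, hPv, QuadraticMap.polar_comm Q (P i j κ b *ᵥ Pi.single l.1 1),
        mul_zero, add_zero, zero_add] at h0
      rw [← sub_eq_zero, ← sub_mul, mul_eq_zero, or_iff_left κ.2, sub_eq_zero] at h0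
      exact CharTwo.sq_injective (by simp only [sq]; exact h0)
    obtain rfl : u = u' := by
      funext l
      have hne : l.1 ≠ kk i j := l.2.ne'
      have hli : i < l.1 := (hik i j).trans l.2
      have hnm : ¬ (i < l.1 ∧ l.1 < kk i j) := fun hh => hh.2.not_gt l.2
      have hc : ∀ u, M ⟨i, j, ⟨κ, b⟩, d, m, u⟩ *ᵥ Pi.single l.1 1 =
          P i j κ b *ᵥ Pi.single l.1 1 + (u l).2 • (P i j κ b *ᵥ Pi.single (kk i j) 1) +
            (u l).1 • (P i j κ b *ᵥ Pi.single i 1) := fun u => by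
        rw [hcol]
        simp [α, β, V, W, P', dif_pos l.2, if_neg hne, dif_neg hnm]
      have h1 := hB (Pi.single i 1) (Pi.single l.1 1)
      rw [hVV ⟨i, j, ⟨κ, b⟩, d, m, u⟩, hVV ⟨i, j, ⟨κ, b⟩, d, m, u'⟩, hc, hc] at h1
      simp only [V, P', QuadraticMap.polar_add_right, QuadraticMap.polar_smul_right, hself,
        (hPl i j κ b l.1 hli.ne' hne).2, hPb, smul_eq_mul, mul_zero, add_zero, zero_add] at h1
      have hu2 : (u l).2 = (u' l).2 := mul_right_cancel₀ b.2 h1
      have h2 := hB (Pi.single (kk i j) 1) (Pi.single l.1 1)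
      rw [hWW ⟨i, j, ⟨κ, b⟩, d, m, u⟩, hWW ⟨i, j, ⟨κ, b⟩, d, m, u'⟩, hc, hc] at h2
      simp only [V, W, P', QuadraticMap.polar_add_left, QuadraticMap.polar_add_right,
        QuadraticMap.polar_smul_left, QuadraticMap.polar_smul_right, hself, hPb, hu2,
        QuadraticMap.polar_comm Q (P i j κ b *ᵥ Pi.single (kk i j) 1) (P i j κ b *ᵥ Pi.single i 1),
        smul_eq_mul, mul_zero, add_zero, zero_add] at h2
      exact Prod.ext (mul_right_cancel₀ b.2 (by linear_combination h2)) hu2
    rfl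
  · have hmid : ∀ (i : Fin n) (j : Fin (n - 1 - i)),
        Nat.card {l : Fin n // i < l ∧ l < kk i j} = j := fun i j => by
      rw [Nat.card_eq_fintype_card, Fintype.card_subtype]
      have : (Finset.univ.filter fun l : Fin n => i < l ∧ l < kk i j) = Finset.Ioo i (kk i j) := by
        ext l; simp
      rw [this, Fin.card_Ioo]
      show (i : ℕ) + 1 + j - i - 1 = j
      omega
    have hhi : ∀ (i : Fin n) (j : Fin (n - 1 - i)),
        Nat.card {l : Fin n // kk i j < l} = n - 1 - (i + 1 + j) := fun i j => by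
      rw [Nat.card_eq_fintype_card, Fintype.card_subtype]
      have : (Finset.univ.filter fun l : Fin n => kk i j < l) = Finset.Ioi (kk i j) := by ext l; simp
      rw [this, Fin.card_Ioi]
    obtain ⟨q, hq⟩ : ∃ q, q = Fintype.card F := ⟨_, rfl⟩
    have hq2 : q = 2 * (q / 2) := by
      have := FiniteField.even_card_of_char_two (ringChar.eq F 2)
      rw [← hq] at this
      omega
    have hne : Nat.card {x : F // x ≠ 0} = q - 1 := by
      rw [Nat.card_eq_fintype_card, Fintype.card_subtype_compl, Fintype.card_subtype_eq, hq]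
    have hcard : Nat.card ι = (q - 1) * (q - 1) * (q / 2) *
        ∑ m ∈ Finset.range n, ∑ j ∈ Finset.range m, q ^ (2 * m - 2 - j) := by
      simp only [ι, Nat.card_sigma, Nat.card_prod, Nat.card_fun, Nat.card_fin, hmid, hhi, hne,
        Nat.card_eq_fintype_card (α := F), ← hq]
      rw [← Finset.sum_range_reflect (fun m => ∑ j ∈ Finset.range m, q ^ (2 * m - 2 - j)) n,
        ← Fin.sum_univ_eq_sum_range (fun i => ∑ j ∈ Finset.range (n - 1 - i),
          q ^ (2 * (n - 1 - i) - 2 - j)) n, Finset.mul_sum]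
      refine Finset.sum_congr rfl fun i _ => ?_
      rw [← Fin.sum_univ_eq_sum_range (fun j => q ^ (2 * (n - 1 - i) - 2 - j)), Finset.mul_sum]
      refine Finset.sum_congr rfl fun j _ => ?_
      have h1 := j.2
      have h2 := i.2
      have e : ∀ a : ℕ, (q * q) ^ a = q ^ (2 * a) := fun a => by rw [pow_mul, sq]
      rw [e, ← pow_add, mul_assoc ((q - 1) * (q - 1))]
      congr 3
      omega
    rw [← hq, hcard]
    apply Nat.div_le_of_le_mul
    have hsum := sum_positions q n
    generalize (∑ m ∈ Finset.range n, ∑ j ∈ Finset.range m, q ^ (2 * m - 2 - j)) = S at hsum ⊢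
    have e : 2 * ((q + 1) * ((q - 1) * (q - 1) * S)) * q =
        2 * ((2 * (q + 1)) * ((q - 1) * (q - 1) * (q / 2) * S)) := by
      conv_lhs => rw [hq2]
      rw [← hq2]
      calc 2 * ((q + 1) * ((q - 1) * (q - 1) * S)) * q
          = 2 * ((q + 1) * ((q - 1) * (q - 1) * S)) * (2 * (q / 2)) := by rw [← hq2]
        _ = _ := by ring
    omega

end Even

end Cfsg.Agent.Classical.SympMinDeg
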