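import Mathlib
import Cfsg.Agent.Lib.Classical.SympMinDeg.Orbit

/-!
# The minimal degrees of the representations of the symplectic groups
-/

set_option autoImplicit false
set_option linter.unusedSectionVars false

namespace Cfsg.Agent.Classical.SympMinDeg

open Matrix
open Cfsg.Agent.Forms.SympStd

variable {F : Type*} [Field F] [Fintype F] {n : ℕ}
variable {V : Type*} [AddCommGroup V] [Module ℂ V] [FiniteDimensional ℂ V]
variable (ρ : Representation ℂ (Matrix.symplecticGroup (Fin n) F) V)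

theorem exists_rootChar_ne {χ : AddChar (symm F n) ℂ} {S₀ : symm F n} (h : χ S₀ ≠ 1) :
    ∃ b, rootChar χ b ≠ 1 := by
  by_contra hc
  push Not at hc
  have hR : ∀ κ b, χ (rEl κ b) = 1 := fun κ b => by rw [← rootChar_apply, hc b]; rfl
  have hO : ∀ a (b c : Fin n → F), χ (oEl a b c) = 1 := fun a b c => by
    have := hR a (b + c)
    rwa [rEl_add_vec, AddChar.map_add_eq_mul, AddChar.map_add_eq_mul, hR, hR, one_mul, one_mul]
      at this
  apply h
  rw [symm_decomp S₀, AddChar.map_add_eq_mul]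
  simp only [Cfsg.Agent.KnownSimple.CrossCharDegree.map_sum_prod, hR, Finset.prod_const_one,
    one_mul]
  refine Finset.prod_eq_one fun i _ => Finset.prod_eq_one fun j _ => ?_
  split_ifs
  · exact hO _ _ _
  · exact AddChar.map_zero_eq_one χ

theorem exists_rad_ne (hn : 1 ≤ n) (hρ : ∃ g, ρ g ≠ 1) : ∃ S, ρ (sRad S) ≠ 1 := by
  by_contra h
  push Not at h
  obtain ⟨g, hg⟩ := hρ
  exact hg (rad_trivial_imp ρ hn h g)

/-- A non-trivial representation has degree at least `(q^n - 1)/2` for odd `q`. -/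
theorem bound_odd (hn : 1 ≤ n) (hodd : ringChar F ≠ 2) (hρ : ∃ g, ρ g ≠ 1) :
    (Fintype.card F ^ n - 1) / 2 ≤ Module.finrank ℂ V ∧
      ∀ u : V, u ≠ 0 → (∀ S, ρ (sRad S) u = u) →
        (Fintype.card F ^ n - 1) / 2 + 1 ≤ Module.finrank ℂ V := by
  obtain ⟨S₀, hS₀⟩ := exists_rad_ne ρ hn hρ
  obtain ⟨χ, hχ, hχ0⟩ := exists_weight ρ hS₀
  obtain ⟨b, hb⟩ := exists_rootChar_ne hχ0
  obtain ⟨Q, hQ⟩ := exists_quad χ hb
  have hQb : Q b ≠ 0 := by
    intro h0
    have := hQ b
    rw [h0, AddChar.mulShift_zero] at this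
    exact hb this
  obtain ⟨ι, _, M, hu, hM, hcard⟩ := exists_family_odd Q hodd ⟨b, hQb⟩ hn
  exact ⟨hcard.trans (card_le_of_family ρ hχ hb hQ M hu hM), fun u hu0 hfix =>
    le_trans (Nat.add_le_add_right hcard 1)
      (card_succ_le_of_family ρ hχ hb hQ ⟨b, hQb⟩ M hu hM hu0 hfix)⟩

/-- The bound for even `q`. -/
theorem bound_even [CharP F 2] (hn : 2 ≤ n) (hex : n = 2 → ∃ a : F, a ≠ 0 ∧ a ≠ 1)
    (hρ : ∃ g, ρ g ≠ 1) :
    (Fintype.card F ^ n - 1) * (Fintype.card F ^ n - Fintype.card F) /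
      (2 * (Fintype.card F + 1)) ≤ Module.finrank ℂ V := by
  classical
  let i₀ : Fin n := ⟨0, by omega⟩
  let i₁ : Fin n := ⟨1, by omega⟩
  have h01 : i₀ ≠ i₁ := by simp [i₀, i₁, Fin.ext_iff]
  let S₀ : symm F n := oEl 1 (Pi.single i₀ 1) (Pi.single i₁ 1)
  have hS₀ : ρ (sRad S₀) ≠ 1 := by
    intro htriv
    let Z := Subgroup.center (Matrix.symplecticGroup (Fin n) F)
    let N := (MonoidHom.ker ρ.toHomUnits)
    haveI : N.Normal := MonoidHom.normal_ker _
    have hmem : sRad S₀ ∈ N := Units.ext htriv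
    have hnot : sRad S₀ ∉ Z := by
      intro hz
      obtain ⟨c, hc⟩ := (Cfsg.Agent.Classical.Symplectic.mem_center_iff _).1 hz
      have h1 := congrFun (hc (Pi.single (Sum.inr i₁) 1)) (Sum.inl i₀)
      simp [sRad, S₀, coe_oEl, Matrix.vecMulVec_apply, h01, h01.symm] at h1
    haveI := Cfsg.Agent.Classical.Symplectic.isSimpleGroup_PSp (F := F) (m := n) hn hex
    let π := QuotientGroup.mk' Z
    have hNπ : (N.map π).Normal := Subgroup.Normal.map inferInstance π (QuotientGroup.mk'_surjective Z)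
    rcases hNπ.eq_bot_or_eq_top with h | h
    · exact hnot (by
        have h1 : π (sRad S₀) ∈ N.map π := Subgroup.mem_map_of_mem π hmem
        rw [h, Subgroup.mem_bot] at h1
        exact (QuotientGroup.eq_one_iff _).1 h1)
    · have hperf : commutator (Matrix.symplecticGroup (Fin n) F) = ⊤ := by
        refine Cfsg.Agent.Classical.Symplectic.commutator_eq_top ?_
        rcases Nat.eq_or_lt_of_le hn with h2 | h3
        · exact Or.inr (Or.inl ⟨h2.symm, hex h2.symm⟩)
        · exact Or.inl h3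
      have hle : commutator (Matrix.symplecticGroup (Fin n) F) ≤ N := by
        rw [commutator_def, Subgroup.commutator_le]
        intro a _ b _
        obtain ⟨a', ha', hea⟩ : π a ∈ N.map π := h ▸ Subgroup.mem_top _
        obtain ⟨b', hb', heb⟩ : π b ∈ N.map π := h ▸ Subgroup.mem_top _
        obtain ⟨z, hz, rfl⟩ : ∃ z ∈ Z, a = a' * z :=
          ⟨a'⁻¹ * a, (QuotientGroup.eq).1 hea, by group⟩
        obtain ⟨w, hw, rfl⟩ : ∃ w ∈ Z, b = b' * w :=
          ⟨b'⁻¹ * b, (QuotientGroup.eq).1 heb, by group⟩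
        have hz' := Subgroup.mem_center_iff.1 hz
        have hw' := Subgroup.mem_center_iff.1 hw
        rw [MonoidHom.mem_ker, map_commutatorElement, map_mul, map_mul,
          MonoidHom.mem_ker.1 ha', MonoidHom.mem_ker.1 hb', one_mul, one_mul,
          ← map_commutatorElement, commutatorElement_eq_one_iff_mul_comm.2 (hz' w).symm, map_one]
      obtain ⟨g, hg⟩ := hρ
      refine hg ?_
      have : g ∈ N := hle (hperf ▸ Subgroup.mem_top g)
      exact congrArg Units.val (MonoidHom.mem_ker.1 this)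
  obtain ⟨χ, hχ, hχ0⟩ := exists_weight ρ hS₀
  obtain ⟨b, hb⟩ := exists_rootChar_ne hχ0
  obtain ⟨lam, hlam⟩ : ∃ lam, lam = rootChar χ b := ⟨_, rfl⟩
  rw [← hlam] at hb
  obtain ⟨Q, hQ⟩ := exists_quad χ hb
  have hpol : QuadraticMap.polar Q (Pi.single i₀ 1) (Pi.single i₁ 1) ≠ 0 := by
    intro h0
    apply hχ0
    have hsum : Q (Pi.single i₀ 1 + Pi.single i₁ 1) = Q (Pi.single i₀ 1) + Q (Pi.single i₁ 1) := by
      rw [QuadraticMap.map_add (f := ⇑Q), h0, add_zero]
    have h := DFunLike.congr_fun (hQ (Pi.single i₀ 1 + Pi.single i₁ 1)) 1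
    rw [rootChar_apply, rEl_add_vec, AddChar.map_add_eq_mul, AddChar.map_add_eq_mul,
      ← rootChar_apply, ← rootChar_apply, hQ, hQ, hsum, AddChar.mulShift_apply,
      AddChar.mulShift_apply, AddChar.mulShift_apply, mul_one, mul_one, mul_one,
      AddChar.map_add_eq_mul] at h
    exact (mul_eq_left₀ (mul_ne_zero (AddChar.val_isUnit _ _).ne_zero
      (AddChar.val_isUnit _ _).ne_zero)).1 h
  obtain ⟨ι, _, M, hu, hM, hcard⟩ := exists_family_even Q hpol
  exact hcard.trans (card_le_of_family ρ hχ hb hQ M hu hM)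

end Cfsg.Agent.Classical.SympMinDeg
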