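import Mathlib
import Cfsg.Agent.Lib.Classical.SympMinDeg.Bounds

/-!
# The odd Weil representation of the symplectic group over a field of odd order

The intertwiners of the Heisenberg representation give a projective representation commuting with
the parity operator.  Dividing by the quotient of the determinants on the even and on the odd
functions makes it linear, as the two dimensions differ by one.
-/

set_option autoImplicit false
set_option linter.unusedSectionVars false

namespace Cfsg.Agent.Classical.SympMinDeg.Weil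

open Matrix
open Cfsg.Agent.Forms.SympStd

variable {F : Type*} [Field F] [Fintype F] [DecidableEq F] {n : ℕ}

local notation "Pt" => (Fin n → F)
local notation "Vec" => (Fin n ⊕ Fin n → F)
local notation "Op" => Matrix (Fin n → F) (Fin n → F) ℂ
local notation "Fn" => ((Fin n → F) → ℂ)
local notation "Sp" => Matrix.symplecticGroup (Fin n) F
local notation "MatV" => Matrix (Fin n ⊕ Fin n) (Fin n ⊕ Fin n) F
local notation "f" => Cfsg.sympForm n F

variable (ψ : AddChar F ℂ)

/-- The Heisenberg operator of a vector. -/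
def heisOp (v : Vec) : Op := Matrix.of fun a c =>
  if c = a + v ∘ Sum.inl then
    ψ ((v ∘ Sum.inr) ⬝ᵥ a + 2⁻¹ * ((v ∘ Sum.inl) ⬝ᵥ (v ∘ Sum.inr))) else 0

theorem heisOp_mulVec (v : Vec) (φ : Fn) (a : Pt) :
    (heisOp ψ v *ᵥ φ) a =
      ψ ((v ∘ Sum.inr) ⬝ᵥ a + 2⁻¹ * ((v ∘ Sum.inl) ⬝ᵥ (v ∘ Sum.inr))) * φ (a + v ∘ Sum.inl) := by
  simp [heisOp, Matrix.mulVec, dotProduct]

theorem op_ext {A C : Op} (h : ∀ φ a, (A *ᵥ φ) a = (C *ᵥ φ) a) : A = C :=
  Matrix.ext_of_mulVec_single fun c => funext (h _)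

theorem sympForm_split (u v : Vec) :
    f u v = (u ∘ Sum.inr) ⬝ᵥ (v ∘ Sum.inl) - (u ∘ Sum.inl) ⬝ᵥ (v ∘ Sum.inr) := by
  rw [sympForm_eq]
  simp [dotProduct, Finset.sum_sub_distrib]

theorem heisOp_mul (h2 : (2 : F) ≠ 0) (u v : Vec) :
    heisOp ψ u * heisOp ψ v = ψ (-(2⁻¹ * f u v)) • heisOp ψ (u + v) := by
  refine op_ext fun φ a => ?_
  rw [← Matrix.mulVec_mulVec, heisOp_mulVec, heisOp_mulVec, Matrix.smul_mulVec, Pi.smul_apply,
    heisOp_mulVec, smul_eq_mul, ← mul_assoc, ← mul_assoc, ← AddChar.map_add_eq_mul,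
    ← AddChar.map_add_eq_mul]
  congr 2
  · have e1 : (u + v) ∘ Sum.inl = u ∘ Sum.inl + v ∘ Sum.inl := rfl
    have e2 : (u + v) ∘ Sum.inr = u ∘ Sum.inr + v ∘ Sum.inr := rfl
    rw [sympForm_split, e1, e2]
    simp only [add_dotProduct, dotProduct_add]
    rw [dotProduct_comm (v ∘ Sum.inr) (u ∘ Sum.inl), dotProduct_comm (u ∘ Sum.inr) (v ∘ Sum.inl)]
    field_simp
    ring
  · rw [add_assoc]; rfl

theorem heisOp_zero : heisOp ψ (0 : Vec) = 1 := by
  refine op_ext fun φ a => ?_
  have e1 : (0 : Vec) ∘ Sum.inl = 0 := rfl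
  have e2 : (0 : Vec) ∘ Sum.inr = 0 := rfl
  rw [heisOp_mulVec, e1, e2, Matrix.one_mulVec]
  simp

theorem heisOp_neg_mul (h2 : (2 : F) ≠ 0) (v : Vec) : heisOp ψ (-v) * heisOp ψ v = 1 := by
  rw [heisOp_mul ψ h2, neg_add_cancel, heisOp_zero]
  have : f (-v) v = 0 := by
    rw [← neg_one_smul F v, Cfsg.Agent.Classical.Symplectic.f_smul_left, sympForm_self, mul_zero]
  rw [this, mul_zero, neg_zero, AddChar.map_zero_eq_one, one_smul]

theorem exists_dot_ne (hψ : ψ ≠ 1) {a c : Pt} (h : a ≠ c) :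
    ∃ y : Pt, ψ (y ⬝ᵥ a) ≠ ψ (y ⬝ᵥ c) := by
  by_contra hall
  push Not at hall
  obtain ⟨j, hj⟩ := Function.ne_iff.1 h
  refine hψ (DFunLike.ext _ _ fun t => ?_)
  have h1 := hall (Pi.single j (t / (a j - c j)))
  rw [single_dotProduct, single_dotProduct] at h1
  have hd : a j - c j ≠ 0 := sub_ne_zero.2 hj
  have e : t / (a j - c j) * a j = t + t / (a j - c j) * c j := by field_simp; ring
  rw [e, AddChar.map_add_eq_mul] at h1
  rw [AddChar.one_apply]
  exact (mul_eq_right₀ (AddChar.val_isUnit _ _).ne_zero).1 h1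

/-- The orthogonality relation. -/
theorem sum_dot (hψ : ψ ≠ 1) (c : Pt) :
    ∑ y : Pt, ψ (y ⬝ᵥ c) = if c = 0 then ((Fintype.card Pt : ℕ) : ℂ) else 0 := by
  let χ : AddChar Pt ℂ :=
    { toFun := fun y => ψ (y ⬝ᵥ c)
      map_zero_eq_one' := by simp
      map_add_eq_mul' := fun y z => by simp [add_dotProduct, AddChar.map_add_eq_mul] }
  classical
  have h := AddChar.sum_eq_ite χ
  show ∑ y, χ y = _
  rw [h]
  by_cases hc : c = 0
  · subst hc
    rw [if_pos rfl, if_pos]
    exact DFunLike.ext _ _ fun y => by simp [χ]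
  · rw [if_neg hc, if_neg]
    intro h0
    obtain ⟨y, hy⟩ := exists_dot_ne ψ hψ hc
    refine hy ?_
    rw [dotProduct_zero, AddChar.map_zero_eq_one]
    exact DFunLike.congr_fun h0 y

/-- Commuting with the Heisenberg operators means being scalar. -/
theorem commutant (hψ : ψ ≠ 1) {T : Op} (hT : ∀ v, T * heisOp ψ v = heisOp ψ v * T) :
    ∃ μ : ℂ, T = μ • 1 := by
  have hoff : ∀ a c : Pt, a ≠ c → T a c = 0 := by
    intro a c hac
    obtain ⟨y, hy⟩ := exists_dot_ne ψ hψ hac
    have h := congrFun (congrFun (hT (Sum.elim 0 y)) a) c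
    simp only [Matrix.mul_apply, heisOp, Matrix.of_apply, Sum.elim_comp_inl, Sum.elim_comp_inr,
      add_zero, zero_dotProduct, mul_zero, mul_ite, ite_mul, zero_mul, Finset.sum_ite_eq,
      Finset.sum_ite_eq', Finset.mem_univ, if_true] at h
    by_contra hne
    exact hy (mul_left_cancel₀ hne (by linear_combination -h))
  refine ⟨T 0 0, Matrix.ext fun a c => ?_⟩
  by_cases hac : a = c
  · subst hac
    have h := congrFun (congrFun (hT (Sum.elim a 0)) 0) a
    simp only [Matrix.mul_apply, heisOp, Matrix.of_apply, Sum.elim_comp_inl, Sum.elim_comp_inr,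
      zero_dotProduct, dotProduct_zero, mul_zero, add_zero, AddChar.map_zero_eq_one, mul_ite,
      mul_one, ite_mul, one_mul, zero_mul, zero_add, right_eq_add, Finset.sum_ite_eq,
      Finset.sum_ite_eq', Finset.mem_univ, if_true] at h
    rw [Matrix.smul_apply, Matrix.one_apply_eq, smul_eq_mul, mul_one, ← h]
  · rw [hoff a c hac, Matrix.smul_apply, Matrix.one_apply_ne hac, smul_zero]

/-- An intertwining operator. -/
theorem exists_intertwiner (hψ : ψ ≠ 1) (h2 : (2 : F) ≠ 0) (g : Sp) :
    ∃ T : Op, IsUnit T ∧ ∀ v, T * heisOp ψ v = heisOp ψ ((g : MatV) *ᵥ v) * T := by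
  classical
  let gm : Vec → Vec := fun v => (g : Matrix (Fin n ⊕ Fin n) (Fin n ⊕ Fin n) F) *ᵥ v
  let T : Op → Op := fun X => ∑ v : Vec, heisOp ψ (gm v) * X * heisOp ψ (-v)
  have hT : ∀ X w, T X * heisOp ψ w = heisOp ψ (gm w) * T X := by
    intro X w
    rw [Finset.mul_sum, Finset.sum_mul]
    symm
    refine Fintype.sum_equiv (Equiv.addLeft w) _ _ fun v => ?_
    rw [Equiv.coe_addLeft, ← mul_assoc, ← mul_assoc, heisOp_mul ψ h2, mul_assoc (_ * X),
      heisOp_mul ψ h2]
    have e1 : gm w + gm v = gm (w + v) := (Matrix.mulVec_add _ _ _).symm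
    have e2 : -(w + v) + w = -v := by abel
    have e3 : f (gm w) (gm v) = f w v := sympForm_mulVec g w v
    have e4 : f (-(w + v)) w = f w v := by
      rw [← neg_one_smul F (w + v), Cfsg.Agent.Classical.Symplectic.f_smul_left,
        Cfsg.Agent.Classical.Symplectic.f_add_left, sympForm_self, zero_add, neg_one_mul,
        ← sympForm_swap]
    rw [e1, e2, e3, e4, Matrix.smul_mul, Matrix.smul_mul, Matrix.mul_smul]
  have hne : ∃ X, T X ≠ 0 := by
    by_contra hall
    push Not at hall
    have h1 : ∀ c : Pt, (T (Matrix.single c 0 1)) c 0 = 0 := fun c => by rw [hall]; rfl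
    have h2' : ∑ c : Pt, (T (Matrix.single c 0 1)) c 0 = 0 := Finset.sum_eq_zero fun c _ => h1 c
    have h3 : ∀ c : Pt, ∀ v : Vec, (heisOp ψ (gm v) * Matrix.single c 0 (1 : ℂ) * heisOp ψ (-v) : Op) c 0 =
        heisOp ψ (gm v) c c * heisOp ψ (-v) 0 0 := fun c v => by
      simp [Matrix.mul_apply, Matrix.single_apply, ite_and]
    simp only [T, Matrix.sum_apply, h3] at h2'
    rw [Finset.sum_comm, Finset.sum_eq_single (0 : Vec)] at h2'
    · have h0 : gm 0 = 0 := Matrix.mulVec_zero _
      rw [h0, neg_zero, heisOp_zero] at h2'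
      simp at h2'
    · intro v _ hv
      rw [← Finset.sum_mul]
      suffices h : ∑ c : Pt, heisOp ψ (gm v) c c = 0 by rw [h, zero_mul]
      by_cases hx : gm v ∘ Sum.inl = 0
      · have hy : gm v ∘ Sum.inr ≠ 0 := by
          intro hy
          apply hv
          have h0 : gm v = 0 := by
            funext r
            rcases r with r | r
            · exact congrFun hx r
            · exact congrFun hy r
          refine (Matrix.mulVec_injective_iff_isUnit.2 ?_) (h0.trans (Matrix.mulVec_zero _).symm)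
          exact (Matrix.isUnit_iff_isUnit_det _).2 (SymplecticGroup.symplectic_det g.2)
        have : ∀ c : Pt, heisOp ψ (gm v) c c = ψ (c ⬝ᵥ (gm v ∘ Sum.inr)) := fun c => by
          simp [heisOp, hx, dotProduct_comm c]
        rw [Finset.sum_congr rfl fun c _ => this c, sum_dot ψ hψ, if_neg hy]
      · refine Finset.sum_eq_zero fun c _ => ?_
        simp [heisOp, hx]
    · simp
  obtain ⟨X, hX⟩ := hne
  refine ⟨T X, ?_, hT X⟩
  rw [← Matrix.mulVec_injective_iff_isUnit]
  intro φ₁ φ₂ h12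
  by_contra hne12
  have hφ : φ₁ - φ₂ ≠ 0 := sub_ne_zero.2 hne12
  have hk : T X *ᵥ (φ₁ - φ₂) = 0 := by
    rw [Matrix.mulVec_sub]; exact sub_eq_zero.2 h12
  generalize φ₁ - φ₂ = φ at hφ hk
  have hinv : ∀ v, T X *ᵥ (heisOp ψ v *ᵥ φ) = 0 := fun v => by
    rw [Matrix.mulVec_mulVec, hT, ← Matrix.mulVec_mulVec, hk, Matrix.mulVec_zero]
  obtain ⟨a, ha⟩ := Function.ne_iff.1 hφ
  rw [Pi.zero_apply] at ha
  have hδa : T X *ᵥ (Pi.single a 1) = 0 := by
    have e : (Pi.single a 1 : Fn) = ((Fintype.card Pt : ℂ) * φ a)⁻¹ •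
        ∑ y : Pt, ψ (-(y ⬝ᵥ a)) • (heisOp ψ (Sum.elim 0 y) *ᵥ φ) := by
      funext c
      rw [Pi.smul_apply, Finset.sum_apply]
      have : ∀ y : Pt, (ψ (-(y ⬝ᵥ a)) • (heisOp ψ (Sum.elim 0 y) *ᵥ φ)) c =
          ψ (y ⬝ᵥ (c - a)) * φ c := fun y => by
        rw [Pi.smul_apply, smul_eq_mul, heisOp_mulVec, Sum.elim_comp_inl, Sum.elim_comp_inr,
          zero_dotProduct, mul_zero, add_zero, add_zero, ← mul_assoc, ← AddChar.map_add_eq_mul,
          dotProduct_sub, neg_add_eq_sub]
      rw [Finset.sum_congr rfl fun y _ => this y, ← Finset.sum_mul, sum_dot ψ hψ, smul_eq_mul]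
      by_cases hc : c = a
      · subst hc
        rw [sub_self, if_pos rfl, Pi.single_eq_same, inv_mul_cancel₀]
        exact mul_ne_zero (Nat.cast_ne_zero.2 Fintype.card_ne_zero) ha
      · rw [if_neg (sub_ne_zero.2 hc), zero_mul, mul_zero, Pi.single_eq_of_ne hc]
    rw [e, Matrix.mulVec_smul, Matrix.mulVec_sum]
    simp [Matrix.mulVec_smul, hinv]
  have hall : ∀ c : Pt, T X *ᵥ (Pi.single c 1) = 0 := fun c => by
    have e : heisOp ψ (Sum.elim (a - c) 0) *ᵥ (Pi.single a 1 : Fn) = Pi.single c 1 := by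
      funext d
      rw [heisOp_mulVec, Sum.elim_comp_inl, Sum.elim_comp_inr, dotProduct_zero, mul_zero,
        zero_dotProduct, add_zero, AddChar.map_zero_eq_one, one_mul]
      by_cases hd : d = c
      · subst hd; simp
      · rw [Pi.single_eq_of_ne hd, Pi.single_eq_of_ne]
        intro h
        exact hd (add_right_cancel (h.trans (show a = c + (a - c) by abel)))
    rw [← e, Matrix.mulVec_mulVec, hT, ← Matrix.mulVec_mulVec, hδa, Matrix.mulVec_zero]
  exact hX (Matrix.ext_of_mulVec_single fun c => by rw [hall c, Matrix.zero_mulVec])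

/-- The parity operator. -/
def parity : Op := Matrix.of fun a c => if c = -a then 1 else 0

omit [Field F] in
theorem parity_apply {F : Type*} [Field F] [Fintype F] [DecidableEq F] {n : ℕ}
    (φ : (Fin n → F) → ℂ) (a : Fin n → F) : ((parity : Matrix _ _ ℂ) *ᵥ φ) a = φ (-a) := by
  simp [parity, Matrix.mulVec, dotProduct]

theorem parity_sq : (parity : Op) * parity = 1 :=
  op_ext fun φ a => by
    rw [← Matrix.mulVec_mulVec, parity_apply, parity_apply, neg_neg, Matrix.one_mulVec]

theorem parity_heis (v : Vec) : (parity : Op) * heisOp ψ v = heisOp ψ (-v) * parity := by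
  refine op_ext fun φ a => ?_
  rw [← Matrix.mulVec_mulVec, ← Matrix.mulVec_mulVec, parity_apply, heisOp_mulVec, heisOp_mulVec,
    parity_apply]
  have e1 : (-v) ∘ Sum.inl = -(v ∘ Sum.inl) := rfl
  have e2 : (-v) ∘ Sum.inr = -(v ∘ Sum.inr) := rfl
  rw [e1, e2]
  simp [neg_dotProduct, dotProduct_neg, add_comm (-a), neg_add]

/-- The even functions. -/
def evenFn : Submodule ℂ Fn where
  carrier := {φ | ∀ a, φ (-a) = φ a}
  zero_mem' _ := rfl
  add_mem' ha hb x := congrArg₂ (· + ·) (ha x) (hb x)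
  smul_mem' c _ ha x := congrArg (c • ·) (ha x)

/-- The odd functions. -/
def oddFn : Submodule ℂ Fn where
  carrier := {φ | ∀ a, φ (-a) = -φ a}
  zero_mem' _ := neg_zero.symm
  add_mem' {φ χ} ha hb x := by simp only [Pi.add_apply]; rw [ha x, hb x, neg_add]
  smul_mem' c φ ha x := by simp only [Pi.smul_apply]; rw [ha x, smul_neg]

theorem finrank_parts (h2 : (2 : F) ≠ 0) :
    Module.finrank ℂ (evenFn (F := F) (n := n)) = (Fintype.card F ^ n - 1) / 2 + 1 ∧
      Module.finrank ℂ (oddFn (F := F) (n := n)) = (Fintype.card F ^ n - 1) / 2 := by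
  classical
  let e := Fintype.equivFin Pt
  have hfix : ∀ a : Pt, -a = a → a = 0 := by
    intro a ha
    funext i
    have h := congrFun ha i
    simp only [Pi.neg_apply] at h
    have : (2 : F) * a i = 0 := by linear_combination -h
    simpa [h2] using this
  let A : Finset Pt := Finset.univ.filter fun a => e a < e (-a)
  let A' : Finset Pt := Finset.univ.filter fun a => e (-a) < e a
  have hAA' : A.card = A'.card := Finset.card_equiv (Equiv.neg Pt) fun a => by simp [A, A']
  have hA0 : ∀ a ∈ A, a ≠ 0 := fun a ha h => by simp [A, h] at ha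
  have hunion : (Finset.univ : Finset Pt) = insert 0 (A ∪ A') := by
    ext a
    simp only [Finset.mem_univ, Finset.mem_insert, Finset.mem_union, Finset.mem_filter, A, A',
      true_and, true_iff]
    rcases lt_trichotomy (e a) (e (-a)) with h | h | h
    · exact Or.inr (Or.inl h)
    · exact Or.inl (hfix a (e.injective h).symm)
    · exact Or.inr (Or.inr h)
  have hdisj : Disjoint A A' := by
    rw [Finset.disjoint_filter]
    exact fun a _ h h' => lt_asymm h h'
  have hcard : Fintype.card F ^ n = 2 * A.card + 1 := by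
    have h := congrArg Finset.card hunion
    rw [Finset.card_univ, Fintype.card_fun, Fintype.card_fin, Finset.card_insert_of_notMem (by
      simp [A, A']), Finset.card_union_of_disjoint hdisj, ← hAA'] at h
    omega
  have hd : (Fintype.card F ^ n - 1) / 2 = A.card := by omega
  rw [hd]
  let B₀ : Finset Pt := insert 0 A
  have hB : B₀.card = A.card + 1 := Finset.card_insert_of_notMem (by simp [A])
  have hcase : ∀ a : Pt, a ≠ 0 → a ∈ A ∨ (-a) ∈ A := fun a ha => by
    simp only [A, Finset.mem_filter, Finset.mem_univ, true_and, neg_neg]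
    rcases lt_trichotomy (e a) (e (-a)) with h | h | h
    · exact Or.inl h
    · exact absurd (hfix a (e.injective h).symm) ha
    · exact Or.inr h
  have hnot : ∀ a ∈ A, -a ∉ A := fun a ha h => by
    simp only [A, Finset.mem_filter, Finset.mem_univ, true_and, neg_neg] at ha h
    exact lt_asymm ha h
  constructor
  · let r : evenFn (F := F) (n := n) →ₗ[ℂ] (B₀ → ℂ) :=
      { toFun := fun φ b => φ.1 b.1
        map_add' := fun _ _ => rfl
        map_smul' := fun _ _ => rfl }
    have hinj : Function.Injective r := by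
      intro φ χ h
      have h' : ∀ a ∈ B₀, φ.1 a = χ.1 a := fun a ha => congrFun h ⟨a, ha⟩
      apply Subtype.ext
      funext a
      by_cases ha : a = 0
      · exact h' a (by simp [B₀, ha])
      rcases hcase a ha with h1 | h1
      · exact h' a (Finset.mem_insert_of_mem h1)
      · rw [← φ.2 a, ← χ.2 a]; exact h' _ (Finset.mem_insert_of_mem h1)
    have hsurj : Function.Surjective r := by
      intro g
      let φ : Fn := fun a => if h : a ∈ B₀ then g ⟨a, h⟩
        else if h' : -a ∈ B₀ then g ⟨-a, h'⟩ else 0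
      have hφ : φ ∈ evenFn (F := F) (n := n) := by
        intro a
        show φ (-a) = φ a
        by_cases ha : a = 0
        · rw [ha, neg_zero]
        rcases hcase a ha with h1 | h1
        · have hb : a ∈ B₀ := Finset.mem_insert_of_mem h1
          have hb' : -a ∉ B₀ := fun h => (Finset.mem_insert.1 h).elim
            (fun h => ha (neg_eq_zero.1 h)) (hnot a h1)
          simp [φ, hb, hb']
        · have hb : -a ∈ B₀ := Finset.mem_insert_of_mem h1
          have hb' : a ∉ B₀ := fun h => (Finset.mem_insert.1 h).elim ha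
            (fun h => hnot a h h1)
          simp [φ, hb, hb']
      refine ⟨⟨φ, hφ⟩, funext fun b => ?_⟩
      show φ b.1 = g b
      simp [φ]
    rw [(LinearEquiv.ofBijective r ⟨hinj, hsurj⟩).finrank_eq, Module.finrank_fintype_fun_eq_card,
      Fintype.card_coe, hB]
  · let r : oddFn (F := F) (n := n) →ₗ[ℂ] (A → ℂ) :=
      { toFun := fun φ b => φ.1 b.1
        map_add' := fun _ _ => rfl
        map_smul' := fun _ _ => rfl }
    have hinj : Function.Injective r := by
      intro φ χ h
      have h' : ∀ a ∈ A, φ.1 a = χ.1 a := fun a ha => congrFun h ⟨a, ha⟩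
      apply Subtype.ext
      funext a
      by_cases ha : a = 0
      · have z : ∀ φ : oddFn (F := F) (n := n), φ.1 0 = 0 := fun φ => by
          have := φ.2 0
          rw [neg_zero] at this
          linear_combination (1 / 2 : ℂ) * this
        rw [ha, z, z]
      rcases hcase a ha with h1 | h1
      · exact h' a h1
      · have h3 := h' _ h1
        rw [φ.2 a, χ.2 a] at h3
        exact neg_injective h3
    have hsurj : Function.Surjective r := by
      intro g
      let φ : Fn := fun a => if h : a ∈ A then g ⟨a, h⟩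
        else if h' : -a ∈ A then -g ⟨-a, h'⟩ else 0
      have hφ : φ ∈ oddFn (F := F) (n := n) := by
        intro a
        show φ (-a) = -φ a
        by_cases ha : a = 0
        · have h0 : (0 : Pt) ∉ A := fun h => hA0 0 h rfl
          simp [φ, ha, h0]
        rcases hcase a ha with h1 | h1
        · simp [φ, h1, hnot a h1]
        · have hb' : a ∉ A := fun h => hnot a h h1
          simp [φ, h1, hb']
      refine ⟨⟨φ, hφ⟩, funext fun b => ?_⟩
      show φ b.1 = g b
      simp [φ]
    rw [(LinearEquiv.ofBijective r ⟨hinj, hsurj⟩).finrank_eq, Module.finrank_fintype_fun_eq_card,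
      Fintype.card_coe]

theorem perfect (hn : 2 ≤ n) (h2 : (2 : F) ≠ 0) : commutator Sp = ⊤ := by
  refine Cfsg.Agent.Classical.Symplectic.commutator_eq_top ?_
  rcases Nat.eq_or_lt_of_le hn with h | h
  · refine Or.inr (Or.inl ⟨h.symm, -1, neg_ne_zero.2 one_ne_zero, fun e => h2 ?_⟩)
    linear_combination -e
  · exact Or.inl h

/-- The odd Weil representation. -/
theorem exists_rep (hψ : ψ ≠ 1) (hn : 2 ≤ n) (h2 : (2 : F) ≠ 0) :
    ∃ σ : Representation ℂ Sp (oddFn (F := F) (n := n)),
      ∃ g, σ g ≠ 1 := by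
  classical
  choose W hWu hW using exists_intertwiner (n := n) ψ hψ h2
  -- uniqueness of intertwiners
  have uniq : ∀ (g : Sp) (T : Op), (∀ v, T * heisOp ψ v = heisOp ψ ((g : MatV) *ᵥ v) * T) →
      ∃ μ : ℂ, T = μ • W g := by
    intro g T hT
    obtain ⟨u, hu⟩ := hWu g
    have hW' : ∀ v : Vec, (↑u⁻¹ : Op) * heisOp ψ ((g : MatV) *ᵥ v) = heisOp ψ v * (↑u⁻¹ : Op) := fun v => by
      rw [Units.inv_mul_eq_iff_eq_mul, ← mul_assoc, hu, hW, mul_assoc, ← hu, Units.mul_inv, mul_one]
    obtain ⟨μ, hμ⟩ := commutant (T := (↑u⁻¹ : Op) * T) ψ hψ fun v => by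
      rw [mul_assoc, hT, ← mul_assoc, hW', mul_assoc]
    refine ⟨μ, ?_⟩
    rw [Units.inv_mul_eq_iff_eq_mul, hu, Matrix.mul_smul, Matrix.mul_one] at hμ
    exact hμ
  have hcomp : ∀ g h : Sp, ∃ α : ℂ, α ≠ 0 ∧ W g * W h = α • W (g * h) := by
    intro g h
    obtain ⟨α, hα⟩ := uniq (g * h) (W g * W h) fun v => by
      rw [mul_assoc, hW, ← mul_assoc, hW, mul_assoc, Matrix.mulVec_mulVec]
      rfl
    refine ⟨α, fun h0 => ?_, hα⟩
    rw [h0, zero_smul] at hα
    exact ((hWu g).mul (hWu h)).ne_zero hα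
  have hpar : ∀ g : Sp, W g * parity = parity * W g := by
    have hP : ∀ g : Sp, ∃ μ : ℂˣ, parity * W g * parity = (μ : ℂ) • W g := by
      intro g
      obtain ⟨μ, hμ⟩ := uniq g (parity * W g * parity) fun v => by
        rw [mul_assoc, parity_heis, ← mul_assoc, mul_assoc parity, hW, ← mul_assoc, parity_heis,
          Matrix.mulVec_neg, neg_neg]
        simp only [mul_assoc]
      refine ⟨Units.mk0 μ fun h0 => ?_, hμ⟩
      rw [h0, zero_smul] at hμ
      have hu : IsUnit (parity : Op) := ⟨⟨parity, parity, parity_sq, parity_sq⟩, rfl⟩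
      exact ((hu.mul (hWu g)).mul hu).ne_zero hμ
    choose μ hμ using hP
    have hmul : ∀ g h, μ (g * h) = μ g * μ h := by
      intro g h
      obtain ⟨α, hα, hgh⟩ := hcomp g h
      apply Units.ext
      have e : parity * (W g * W h) * parity = (parity * W g * parity) * (parity * W h * parity) := by
        simp only [mul_assoc]
        rw [← mul_assoc parity parity, parity_sq, one_mul]
      rw [hμ, hμ, Matrix.smul_mul, Matrix.mul_smul, smul_smul, hgh, Matrix.mul_smul, Matrix.smul_mul,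
        hμ, smul_smul, smul_smul] at e
      have h3 := smul_left_injective ℂ (hWu (g * h)).ne_zero e
      rw [Units.val_mul]
      exact mul_left_cancel₀ hα (by linear_combination h3)
    let μh : Sp →* ℂˣ := MonoidHom.mk' μ hmul
    intro g
    have h1 : μ g = 1 := by
      have : g ∈ μh.ker := (Abelianization.commutator_subset_ker μh) (by rw [perfect hn h2]; exact Subgroup.mem_top g)
      exact this
    have h := hμ g
    rw [h1, Units.val_one, one_smul] at h
    conv_lhs => rw [← h]
    rw [mul_assoc, parity_sq, mul_one]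
  -- restriction to the parts
  have hkeep : ∀ (g : Sp) (ε : ℂ) (φ : Fn), (∀ a, φ (-a) = ε * φ a) →
      ∀ a, (W g *ᵥ φ) (-a) = ε * (W g *ᵥ φ) a := by
    intro g ε φ hφ a
    have e : (parity : Op) *ᵥ φ = ε • φ := funext fun b => by rw [parity_apply, hφ]; rfl
    rw [← parity_apply (W g *ᵥ φ) a, Matrix.mulVec_mulVec, ← hpar, ← Matrix.mulVec_mulVec, e,
      Matrix.mulVec_smul]
    rfl
  have hkE : ∀ g : Sp, ∀ φ ∈ evenFn (F := F) (n := n), (W g).mulVecLin φ ∈ evenFn (F := F) (n := n) :=
    fun g φ hφ a => by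
      have := hkeep g 1 φ (fun b => by rw [one_mul]; exact hφ b) a
      rwa [one_mul] at this
  have hkO : ∀ g : Sp, ∀ φ ∈ oddFn (F := F) (n := n), (W g).mulVecLin φ ∈ oddFn (F := F) (n := n) :=
    fun g φ hφ a => by
      have := hkeep g (-1) φ (fun b => by rw [neg_one_mul]; exact hφ b) a
      rwa [neg_one_mul] at this
  let E : Sp → Module.End ℂ (evenFn (F := F) (n := n)) := fun g => (W g).mulVecLin.restrict (hkE g)
  let O : Sp → Module.End ℂ (oddFn (F := F) (n := n)) := fun g => (W g).mulVecLin.restrict (hkO g)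
  have hinjW : ∀ g, Function.Injective (W g).mulVecLin :=
    fun g => Matrix.mulVec_injective_iff_isUnit.2 (hWu g)
  have hdE : ∀ g, LinearMap.det (E g) ≠ 0 := fun g => by
    refine (IsUnit.map (LinearMap.det (M := evenFn (F := F) (n := n)) (A := ℂ)) ?_).ne_zero
    rw [LinearMap.isUnit_iff_ker_eq_bot, LinearMap.ker_eq_bot]
    exact fun a b h => Subtype.ext (hinjW g (congrArg Subtype.val h))
  have hdO : ∀ g, LinearMap.det (O g) ≠ 0 := fun g => by
    refine (IsUnit.map (LinearMap.det (M := oddFn (F := F) (n := n)) (A := ℂ)) ?_).ne_zero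
    rw [LinearMap.isUnit_iff_ker_eq_bot, LinearMap.ker_eq_bot]
    exact fun a b h => Subtype.ext (hinjW g (congrArg Subtype.val h))
  let c : Sp → ℂ := fun g => LinearMap.det (E g) / LinearMap.det (O g)
  have hc0 : ∀ g, c g ≠ 0 := fun g => div_ne_zero (hdE g) (hdO g)
  obtain ⟨hdimE, hdimO⟩ := finrank_parts (F := F) (n := n) h2
  have hc : ∀ g h α, W g * W h = α • W (g * h) →
      O g * O h = α • O (g * h) ∧ c g * c h = α * c (g * h) := by
    intro g h α hα
    have hO : O g * O h = α • O (g * h) := by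
      refine LinearMap.ext fun φ => Subtype.ext ?_
      show W g *ᵥ (W h *ᵥ φ.1) = α • (W (g * h) *ᵥ φ.1)
      rw [Matrix.mulVec_mulVec, hα, Matrix.smul_mulVec]
    have hE : E g * E h = α • E (g * h) := by
      refine LinearMap.ext fun φ => Subtype.ext ?_
      show W g *ᵥ (W h *ᵥ φ.1) = α • (W (g * h) *ᵥ φ.1)
      rw [Matrix.mulVec_mulVec, hα, Matrix.smul_mulVec]
    refine ⟨hO, ?_⟩
    have e1 := congrArg LinearMap.det hE
    have e2 := congrArg LinearMap.det hO
    rw [map_mul, LinearMap.det_smul] at e1 e2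
    simp only [c]
    rw [div_mul_div_comm, e1, e2, hdimE, hdimO, pow_succ]
    have hα0 : α ≠ 0 := by
      rintro rfl
      rw [zero_smul] at hα
      exact ((hWu g).mul (hWu h)).ne_zero hα
    field_simp
  let σ : Representation ℂ Sp (oddFn (F := F) (n := n)) :=
    { toFun := fun g => (c g)⁻¹ • O g
      map_one' := by
        obtain ⟨α, hα, h11⟩ := hcomp 1 1
        obtain ⟨hO, hcc⟩ := hc 1 1 α h11
        rw [mul_one] at hO hcc
        have hα1 : c 1 = α := mul_right_cancel₀ (hc0 1) hcc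
        have hOu : IsUnit (O 1) := by
          rw [LinearMap.isUnit_iff_ker_eq_bot, LinearMap.ker_eq_bot]
          exact fun a b h => Subtype.ext (hinjW 1 (congrArg Subtype.val h))
        have hO1 : O 1 = α • 1 := by
          refine hOu.mul_left_cancel ?_
          rw [hO, mul_smul_comm, mul_one]
        show (c 1)⁻¹ • O 1 = 1
        rw [hO1, smul_smul, hα1, inv_mul_cancel₀ hα, one_smul]
      map_mul' := fun g h => by
        obtain ⟨α, hα, hgh⟩ := hcomp g h
        obtain ⟨hO, hcc⟩ := hc g h α hgh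
        show (c (g * h))⁻¹ • O (g * h) = (c g)⁻¹ • O g * (c h)⁻¹ • O h
        rw [smul_mul_assoc, mul_smul_comm, smul_smul, hO, smul_smul, ← mul_inv, hcc]
        congr 1
        field_simp }
  refine ⟨σ, ?_⟩
  by_contra hall
  push Not at hall
  have hsc : ∀ g, ∀ φ ∈ oddFn (F := F) (n := n), W g *ᵥ φ = c g • φ := by
    intro g φ hφ
    have h := congrArg (fun T : Module.End ℂ (oddFn (F := F) (n := n)) => (T ⟨φ, hφ⟩).1) (hall g)
    change (c g)⁻¹ • (W g *ᵥ φ) = φ at h
    exact (inv_smul_eq_iff₀ (hc0 g)).1 h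
  let Av : Vec → Op := fun v => heisOp ψ v + heisOp ψ (-v)
  have hAv : ∀ v, ∀ φ ∈ oddFn (F := F) (n := n), Av v *ᵥ φ ∈ oddFn (F := F) (n := n) := by
    intro v φ hφ a
    have e : (parity : Op) *ᵥ φ = -φ := funext fun b => by rw [parity_apply]; exact hφ b
    rw [← parity_apply (Av v *ᵥ φ) a, Matrix.mulVec_mulVec]
    have : (parity : Op) * Av v = Av v * parity := by
      simp only [Av, mul_add, add_mul, parity_heis, neg_neg, add_comm]
    rw [this, ← Matrix.mulVec_mulVec, e, Matrix.mulVec_neg]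
    rfl
  have hsame : ∀ (g : Sp) v, ∀ φ ∈ oddFn (F := F) (n := n),
      Av ((g : MatV) *ᵥ v) *ᵥ φ = Av v *ᵥ φ := by
    intro g v φ hφ
    have e : W g * Av v = Av ((g : MatV) *ᵥ v) * W g := by
      simp only [Av, mul_add, add_mul, hW, Matrix.mulVec_neg]
    have h := congrArg (· *ᵥ φ) e
    simp only [← Matrix.mulVec_mulVec, hsc g _ (hAv v φ hφ), hsc g φ hφ, Matrix.mulVec_smul] at h
    exact (smul_right_injective _ (hc0 g) h).symm
  let a₀ : Pt := Pi.single ⟨0, by omega⟩ 1
  let b₀ : Pt := Pi.single ⟨1, by omega⟩ 1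
  let φ₀ : Fn := Pi.single a₀ 1 - Pi.single (-a₀) 1
  have hφ₀ : φ₀ ∈ oddFn (F := F) (n := n) := fun a => by
    simp only [φ₀, Pi.sub_apply, Pi.single_apply, neg_eq_iff_eq_neg, neg_neg, neg_sub]
  have hval : φ₀ a₀ = 1 := by
    have : -a₀ ≠ a₀ := fun h => by
      have := congrFun h ⟨0, by omega⟩
      simp [a₀] at this
      exact h2 (by linear_combination -this)
    simp [φ₀, this, Ne.symm this]
  have hev : ∀ y : Pt, (Av (Sum.elim 0 y) *ᵥ φ₀) a₀ = ψ (y ⬝ᵥ a₀) + ψ (-(y ⬝ᵥ a₀)) := by
    intro y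
    simp only [Av, Matrix.add_mulVec, Pi.add_apply, heisOp_mulVec]
    have e1 : (-(Sum.elim (0 : Pt) y)) ∘ Sum.inl = (0 : Pt) := by funext i; simp
    have e2 : (-(Sum.elim (0 : Pt) y)) ∘ Sum.inr = -y := by funext i; simp
    rw [e1, e2, Sum.elim_comp_inl, Sum.elim_comp_inr]
    simp [hval, neg_dotProduct]
  obtain ⟨t, ht⟩ := AddChar.ne_one_iff.1 hψ
  have hyt : (Sum.elim 0 (Pi.single ⟨0, by omega⟩ t) : Vec) ≠ 0 := fun h => by
    have := congrFun h (Sum.inr ⟨0, by omega⟩)
    simp at this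
    exact ht (by rw [this, AddChar.map_zero_eq_one])
  have hb : (Sum.elim 0 b₀ : Vec) ≠ 0 := fun h => by
    have := congrFun h (Sum.inr ⟨1, by omega⟩)
    simp [b₀] at this
  obtain ⟨g, hg⟩ := Cfsg.Agent.Classical.Symplectic.exists_move hb hyt
  have h := congrFun (hsame g (Sum.elim 0 b₀) φ₀ hφ₀) a₀
  rw [hg, hev, hev] at h
  have e0 : b₀ ⬝ᵥ a₀ = 0 := by simp [b₀, a₀, Fin.ext_iff]
  have e1 : (Pi.single (⟨0, by omega⟩ : Fin n) t : Pt) ⬝ᵥ a₀ = t := by simp [a₀]
  rw [e0, e1, neg_zero, AddChar.map_zero_eq_one] at h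
  have hinv : ψ t * ψ (-t) = 1 := by rw [← AddChar.map_add_eq_mul, add_neg_cancel, AddChar.map_zero_eq_one]
  have : (ψ t - 1) * (ψ t - 1) = 0 := by linear_combination ψ t * h - hinv
  exact ht (sub_eq_zero.1 (mul_self_eq_zero.1 this))

omit [DecidableEq F] in
/-- An irreducible representation of degree `(q^n - 1)/2`. -/
theorem exists_irreducible (hn : 2 ≤ n) (hodd : ringChar F ≠ 2) :
    ∃ ρ : Representation ℂ Sp (Fin ((Fintype.card F ^ n - 1) / 2) → ℂ), ρ.IsIrreducible := by
  classical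
  have h2 : (2 : F) ≠ 0 := Ring.two_ne_zero hodd
  haveI : Nontrivial (AddChar F ℂ) := by
    rw [← Fintype.one_lt_card_iff_nontrivial, AddChar.card_eq]
    exact Fintype.one_lt_card
  obtain ⟨ψ, hψ⟩ := exists_ne (1 : AddChar F ℂ)
  obtain ⟨σ, g, hg⟩ := exists_rep ψ hψ hn h2
  have hdim := (finrank_parts (F := F) (n := n) h2).2
  obtain ⟨e⟩ : Nonempty (oddFn (F := F) (n := n) ≃ₗ[ℂ] (Fin ((Fintype.card F ^ n - 1) / 2) → ℂ)) :=
    FiniteDimensional.nonempty_linearEquiv_of_finrank_eq (by
      rw [hdim, Module.finrank_fintype_fun_eq_card, Fintype.card_fin])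
  let ρ : Representation ℂ Sp (Fin ((Fintype.card F ^ n - 1) / 2) → ℂ) :=
    { toFun := fun g => e.conj (σ g)
      map_one' := by rw [map_one]; exact e.conj_id
      map_mul' := fun g h => by rw [map_mul]; exact e.conj_comp (σ h) (σ g) }
  have hρ : ∀ g, ρ g = e.conj (σ g) := fun g => rfl
  have hρg : ρ g ≠ 1 := by
    intro h
    refine hg (e.conj.injective ?_)
    rw [← hρ, h]
    exact e.conj_id.symm
  refine ⟨ρ, (Cfsg.Agent.Characters.isIrreducible_iff ρ).2 ⟨?_, fun U hU => ?_⟩⟩
  · by_contra hnt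
    rw [not_nontrivial_iff_subsingleton] at hnt
    exact hρg (LinearMap.ext fun x => Subsingleton.elim _ _)
  · let τ : Representation ℂ Sp U :=
      { toFun := fun g => (ρ g).restrict (hU g)
        map_one' := LinearMap.ext fun x => Subtype.ext (by simp)
        map_mul' := fun g h => LinearMap.ext fun x => Subtype.ext (by simp) }
    by_cases htriv : ∀ g, τ g = 1
    · refine Or.inl ((Submodule.eq_bot_iff U).2 fun u hu => ?_)
      by_contra hu0
      have hfix : ∀ S, ρ (sRad S) u = u := fun S => by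
        have := LinearMap.congr_fun (htriv (sRad S)) ⟨u, hu⟩
        exact congrArg Subtype.val this
      have hb := (bound_odd ρ (by omega) hodd ⟨g, hρg⟩).2 u hu0 hfix
      rw [Module.finrank_fintype_fun_eq_card, Fintype.card_fin] at hb
      omega
    · push Not at htriv
      refine Or.inr (Submodule.eq_top_of_finrank_eq (le_antisymm (Submodule.finrank_le U) ?_))
      rw [Module.finrank_fintype_fun_eq_card, Fintype.card_fin]
      exact (bound_odd τ (by omega) hodd htriv).1

end Cfsg.Agent.Classical.SympMinDeg.Weil
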